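import Mathlib
import Cfsg.Agent.H451.Tor.OrthCore

/-!
# The simple orthogonal groups in their own characteristic (for S3235)

If `a` is an element of order `p` of `PΩ_n(q)`, `n ≥ 7`, `q` a power of the odd prime `p`, then `a` does not commute
with one of its conjugates `b` for which `⟨a, b⟩` is a `p`-group.
-/

set_option autoImplicit false
set_option linter.unusedSectionVars false

namespace Cfsg.Agent.H451.Tor.Orth

open Cfsg Cfsg.Agent.ChevalleyStructure.OrthHyp
open scoped MatrixGroups Matrix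

/-- `a` commutes with all its conjugates which generate a `p`-group with it. -/
def PC (p : ℕ) {K : Type*} [Group K] (a : K) : Prop :=
  ∀ g : K, IsPGroup p (Subgroup.closure ({a, g * a * g⁻¹} : Set K)) → a * (g * a * g⁻¹) = g * a * g⁻¹ * a

theorem PC.of_equiv {p : ℕ} {K L : Type*} [Group K] [Group L] (e : K ≃* L) {a : K} (h : PC p a) :
    PC p (e a) := by
  intro g hg
  obtain ⟨g, rfl⟩ := e.surjective g
  rw [← map_inv, ← map_mul, ← map_mul, ← map_mul, ← map_mul]
  congr 1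
  apply h
  have h1 : (Subgroup.closure ({a, g * a * g⁻¹} : Set K)).map e.toMonoidHom =
      Subgroup.closure ({e a, e g * e a * (e g)⁻¹} : Set L) := by
    rw [MonoidHom.map_closure, Set.image_pair]
    simp
  rw [← h1] at hg
  exact hg.of_equiv ((Subgroup.closure ({a, g * a * g⁻¹} : Set K)).equivMapOfInjective e.toMonoidHom
    e.injective).symm

variable {ι : Type} [Fintype ι] [DecidableEq ι] {F : Type*} [Field F]
variable {H : HypForm ι F} {p : ℕ} [hp : Fact p.Prime] [CharP F p]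

theorem of_surj {k l m : ι} (hk : k ∈ H.P) (hl : l ∈ H.P) (hm : m ∈ H.P) (hlk : l ≠ k)
    (hlk' : l ≠ H.bar k)
    (hmk : m ≠ k) (hmk' : m ≠ H.bar k) (hml : m ≠ l) (hml' : m ≠ H.bar l)
    (hp3 : 3 ≤ p) (hcard : 7 ≤ Fintype.card ι) {K : Type*} [Group K] (π : Omega F H.Q →* K)
    (hπ : Function.Surjective π) (hker : ∀ z, π z = 1 → z ∈ Subgroup.center (Omega F H.Q)) {a : K}
    (hap : a ^ p = 1) (hPC : PC p a) : a = 1 := by
  have h2 : (2 : F) ≠ 0 := by
    intro h
    have h3 : (p : ℕ) ∣ 2 := (CharP.cast_eq_zero_iff F p 2).1 (by exact_mod_cast h)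
    have := Nat.le_of_dvd (by norm_num) h3
    omega
  have hodd : Odd p := hp.out.odd_of_ne_two (by omega)
  have hF : ∃ a : F, a ≠ 0 ∧ a ≠ 1 := by
    refine ⟨-1, neg_ne_zero.2 one_ne_zero, fun h => h2 ?_⟩
    rw [← one_add_one_eq_two]
    nth_rw 1 [← h]
    exact neg_add_cancel 1
  have hEO := H.le_commutator_of_field hF
  -- elements of the center are involutions
  have hZ : ∀ z ∈ Subgroup.center (Omega F H.Q), z ^ 2 = 1 := by
    intro z hz
    have h3 : ∀ e ∈ H.gens ∅, ((z : H.O) : GL ι F) * e = e * ((z : H.O) : GL ι F) := by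
      intro e he
      have heE : e ∈ H.E := Subgroup.subset_closure he
      let e' : Omega F H.Q := ⟨⟨e, H.E_le_O heE⟩, hEO (show (⟨e, H.E_le_O heE⟩ : H.O) ∈ H.EO from heE)⟩
      have h4 := Subgroup.mem_center_iff.1 hz e'
      have h5 := congrArg (fun y : Omega F H.Q => ((y : H.O) : GL ι F)) h4
      exact h5.symm
    obtain ⟨c, hc, hc'⟩ := H.scalar_of_commute hk hl hlk hlk' (g := ((z : H.O) : GL ι F)) (z : H.O).2 h3
    apply Subtype.ext
    apply Subtype.ext
    apply ext_act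
    intro v
    show (((((z : H.O) : GL ι F) ^ 2 : GL ι F)) : Matrix ι ι F) *ᵥ v = _
    rw [pow_two, act_mul, hc', hc', smul_smul, ← pow_two, hc, one_smul]
    exact (act_one v).symm
  obtain ⟨x', hx'⟩ := hπ a
  set x := x' ^ (p + 1) with hx
  have hπx : π x = a := by rw [hx, map_pow, hx', pow_succ, hap, one_mul]
  have hxp : x ^ p = 1 := by
    have h3 : x' ^ p ∈ Subgroup.center (Omega F H.Q) := hker _ (by rw [map_pow, hx', hap])
    obtain ⟨r, hr⟩ := hodd
    rw [hx, ← pow_mul, show (p + 1) * p = p * 2 * (r + 1) by rw [hr]; ring, pow_mul, pow_mul, hZ _ h3, one_pow]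
  have hC : Cond H p ((x : H.O) : GL ι F) := by
    intro g hg hpg
    let g' : Omega F H.Q := ⟨⟨g, H.E_le_O hg⟩, hEO (show (⟨g, H.E_le_O hg⟩ : H.O) ∈ H.EO from hg)⟩
    let φ : Omega F H.Q →* GL ι F := (Subgroup.subtype H.O).comp (Subgroup.subtype (Omega F H.Q))
    have hφ : Function.Injective φ := fun u v huv => Subtype.ext (Subtype.ext huv)
    have hg' : φ g' = g := rfl
    set y : Omega F H.Q := g' * x * g'⁻¹ with hy
    have hφy : φ y = g * φ x * g⁻¹ := by rw [hy, map_mul, map_mul, map_inv, hg']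
    have hcl : IsPGroup p (Subgroup.closure ({x, y} : Set (Omega F H.Q))) := by
      have h3 : (Subgroup.closure ({x, y} : Set (Omega F H.Q))).map φ =
          Subgroup.closure ({φ x, g * φ x * g⁻¹} : Set (GL ι F)) := by
        rw [MonoidHom.map_closure, Set.image_pair, hφy]
      have h4 : IsPGroup p ((Subgroup.closure ({x, y} : Set (Omega F H.Q))).map φ) := by
        rw [h3]; exact hpg
      exact h4.of_equiv ((Subgroup.closure ({x, y} : Set (Omega F H.Q))).equivMapOfInjective φ hφ).symm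
    have hcl' : IsPGroup p (Subgroup.closure ({a, π g' * a * (π g')⁻¹} : Set K)) := by
      have h3 : (Subgroup.closure ({x, y} : Set (Omega F H.Q))).map π =
          Subgroup.closure ({a, π g' * a * (π g')⁻¹} : Set K) := by
        rw [MonoidHom.map_closure, Set.image_pair, hπx, hy, map_mul, map_mul, map_inv, hπx]
      rw [← h3]
      exact hcl.map π
    have h3 := hPC (π g') hcl'
    rw [← hπx, ← map_inv, ← map_mul, ← map_mul, ← map_mul, ← map_mul, ← hy] at h3
    have h4 : (x * y) * (y * x)⁻¹ ∈ Subgroup.center (Omega F H.Q) := hker _ (by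
      rw [map_mul, h3, ← map_mul, mul_inv_cancel, map_one])
    have h5 := hZ _ h4
    have hxm : x ∈ Subgroup.closure ({x, y} : Set (Omega F H.Q)) := Subgroup.subset_closure (by simp)
    have hym : y ∈ Subgroup.closure ({x, y} : Set (Omega F H.Q)) := Subgroup.subset_closure (by simp)
    have h6 : (x * y) * (y * x)⁻¹ ∈ Subgroup.closure ({x, y} : Set (Omega F H.Q)) :=
      mul_mem (mul_mem hxm hym) (inv_mem (mul_mem hym hxm))
    obtain ⟨r, hr⟩ := hcl ⟨_, h6⟩
    have h7 : ((x * y) * (y * x)⁻¹) ^ p ^ r = 1 := congrArg Subtype.val hr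
    have h8 : (x * y) * (y * x)⁻¹ = 1 := by
      have h9 := (hodd.pow (n := r))
      obtain ⟨s, hs⟩ := h9
      rw [hs, pow_succ, pow_mul, h5, one_pow, one_mul] at h7
      exact h7
    have h9 := congrArg φ (mul_inv_eq_one.1 h8)
    rw [map_mul φ x y, map_mul φ y x, hφy] at h9
    exact h9
  have h3 := eq_one hk hl hm hlk hlk' hmk hmk' hml hml' hp3 h2 hcard (x := ((x : H.O) : GL ι F)) (x : H.O).2
    (congrArg (fun y : Omega F H.Q => ((y : H.O) : GL ι F)) hxp) hC
  have h4 : x = 1 := Subtype.ext (Subtype.ext h3)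
  rw [← hπx, h4, map_one]

theorem of_pomega {k l m : ι} (hk : k ∈ H.P) (hl : l ∈ H.P) (hm : m ∈ H.P) (hlk : l ≠ k)
    (hlk' : l ≠ H.bar k)
    (hmk : m ≠ k) (hmk' : m ≠ H.bar k) (hml : m ≠ l) (hml' : m ≠ H.bar l)
    (hp3 : 3 ≤ p) (hcard : 7 ≤ Fintype.card ι) {K : Type*} [Group K] (e : K ≃* POmega F H.Q) {a : K}
    (hap : a ^ p = 1) (hPC : PC p a) : a = 1 := by
  have h1 : e a = 1 := of_surj hk hl hm hlk hlk' hmk hmk' hml hml' hp3 hcard
    (QuotientGroup.mk' (Subgroup.center (Omega F H.Q))) (QuotientGroup.mk'_surjective _)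
    (fun z hz => (QuotientGroup.eq_one_iff z).1 hz) (by rw [← map_pow, hap, map_one]) (hPC.of_equiv e)
  exact e.injective (by rw [h1, map_one])

/-- `quadFormMinus n F a b` as a `HypForm`. -/
def minusForm (n : ℕ) (F : Type*) [Field F] (a b : F)
    (hab : ∀ z₁ z₂ : F, z₁ ^ 2 + a * z₁ * z₂ + b * z₂ ^ 2 = 0 → z₁ = 0 ∧ z₂ = 0) :
    HypForm ((Fin n ⊕ Fin n) ⊕ Fin 2) F where
  Q := Cfsg.quadFormMinus n F a b
  B u v := (∑ i : Fin n, (u (.inl (.inl i)) * v (.inl (.inr i)) + u (.inl (.inr i)) * v (.inl (.inl i)))) +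
    (2 * (u (.inr 0) * v (.inr 0)) + a * (u (.inr 0) * v (.inr 1) + u (.inr 1) * v (.inr 0)) +
      2 * b * (u (.inr 1) * v (.inr 1)))
  P := Set.range Sum.inl
  bar := Sum.elim (fun i => Sum.inl (Sum.elim Sum.inr Sum.inl i)) Sum.inr
  Q_add u v := by
    simp only [Cfsg.quadFormMinus, Pi.add_apply]
    have : ∑ i : Fin n, (u (.inl (.inl i)) + v (.inl (.inl i))) * (u (.inl (.inr i)) + v (.inl (.inr i))) =
        ∑ i : Fin n, u (.inl (.inl i)) * u (.inl (.inr i)) + ∑ i : Fin n, v (.inl (.inl i)) * v (.inl (.inr i)) +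
        ∑ i : Fin n, (u (.inl (.inl i)) * v (.inl (.inr i)) + u (.inl (.inr i)) * v (.inl (.inl i))) := by
      simp only [← Finset.sum_add_distrib]
      exact Finset.sum_congr rfl fun i _ => by ring
    rw [this]
    ring
  Q_smul c v := by
    simp only [Cfsg.quadFormMinus, Pi.smul_apply, smul_eq_mul, mul_add, Finset.mul_sum]
    congr 1
    · exact Finset.sum_congr rfl fun i _ => by ring
    · ring
  B_add u v w := by
    simp only [Pi.add_apply]
    have : ∑ i : Fin n, ((u (.inl (.inl i)) + v (.inl (.inl i))) * w (.inl (.inr i)) +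
        (u (.inl (.inr i)) + v (.inl (.inr i))) * w (.inl (.inl i))) =
        ∑ i : Fin n, (u (.inl (.inl i)) * w (.inl (.inr i)) + u (.inl (.inr i)) * w (.inl (.inl i))) +
        ∑ i : Fin n, (v (.inl (.inl i)) * w (.inl (.inr i)) + v (.inl (.inr i)) * w (.inl (.inl i))) := by
      simp only [← Finset.sum_add_distrib]
      exact Finset.sum_congr rfl fun i _ => by ring
    rw [this]
    ring
  B_smul c u v := by
    simp only [Pi.smul_apply, smul_eq_mul, mul_add, Finset.mul_sum]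
    congr 1
    · exact Finset.sum_congr rfl fun i _ => by ring
    · ring
  B_comm u v := by
    congr 1
    · exact Finset.sum_congr rfl fun i _ => by ring
    · ring
  bar_mem i hi := by
    obtain ⟨i, rfl⟩ := hi
    exact ⟨_, rfl⟩
  bar_bar i hi := by
    obtain ⟨i | i, rfl⟩ := hi <;> rfl
  bar_ne i hi := by
    obtain ⟨i | i, rfl⟩ := hi <;> simp
  Q_single i hi := by
    obtain ⟨i | i, rfl⟩ := hi <;> simp [Cfsg.quadFormMinus, Pi.single_apply]
  B_single i hi v := by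
    obtain ⟨i | i, rfl⟩ := hi <;> simp [Pi.single_apply]
  aniso v hv hQ := by
    have h1 : ∀ i, v (.inl i) = 0 := fun i => hv (.inl i) ⟨i, rfl⟩
    have h2 : v (.inr 0) = 0 ∧ v (.inr 1) = 0 := by
      apply hab
      simpa [Cfsg.quadFormMinus, h1] using hQ
    funext i
    rcases i with i | i
    · exact h1 i
    · fin_cases i
      · exact h2.1
      · exact h2.2

/-- **The orthogonal groups.** -/
theorem of_odd (hp3 : 3 ≤ p) (n : ℕ) (hn : 3 ≤ n) {K : Type*} [Group K]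
    (e : K ≃* POmega F (quadFormOdd n F)) {a : K} (hap : a ^ p = 1) (hPC : PC p a) : a = 1 := by
  refine of_pomega (H := oddForm n F) (k := .inr (.inl ⟨0, by omega⟩)) (l := .inr (.inl ⟨1, by omega⟩))
      (m := .inr (.inl ⟨2, by omega⟩)) ?_ ?_ ?_ ?_ ?_ ?_ ?_ ?_ ?_ hp3 ?_ e hap hPC
  any_goals simp [oddForm]
  omega

theorem of_plus (hp3 : 3 ≤ p) (n : ℕ) (hn : 4 ≤ n) {K : Type*} [Group K]
    (e : K ≃* POmega F (quadFormPlus n F)) {a : K} (hap : a ^ p = 1) (hPC : PC p a) : a = 1 := by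
  refine of_pomega (H := plusForm n F) (k := .inl ⟨0, by omega⟩) (l := .inl ⟨1, by omega⟩)
      (m := .inl ⟨2, by omega⟩) ?_ ?_ ?_ ?_ ?_ ?_ ?_ ?_ ?_ hp3 ?_ e hap hPC
  any_goals simp [plusForm]
  omega

theorem of_minus (hp3 : 3 ≤ p) (n : ℕ) (hn : 3 ≤ n) {a b : F}
    (hab : ∀ z₁ z₂ : F, z₁ ^ 2 + a * z₁ * z₂ + b * z₂ ^ 2 = 0 → z₁ = 0 ∧ z₂ = 0) {K : Type*} [Group K]
    (e : K ≃* POmega F (quadFormMinus n F a b)) {x : K} (hap : x ^ p = 1) (hPC : PC p x) : x = 1 := by
  refine of_pomega (H := minusForm n F a b hab) (k := .inl (.inl ⟨0, by omega⟩)) (l := .inl (.inl ⟨1, by omega⟩))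
      (m := .inl (.inl ⟨2, by omega⟩)) ?_ ?_ ?_ ?_ ?_ ?_ ?_ ?_ ?_ hp3 ?_ e hap hPC
  any_goals simp [minusForm]
  omega

/-- All orthogonal groups of the list. -/
theorem of_isPOmega (hp5 : 3 ≤ p) {K : Type*} [Group K] (hK : ∃ (F : Type) (_ : Field F) (_ : Fintype F),
    CharP F p ∧ ((∃ m, 3 ≤ m ∧ Nonempty (K ≃* POmega F (quadFormOdd m F))) ∨
      (∃ m, 4 ≤ m ∧ Nonempty (K ≃* POmega F (quadFormPlus m F))) ∨
      (∃ (m : ℕ) (a b : F), 4 ≤ m ∧ (∀ z₁ z₂ : F, z₁ ^ 2 + a * z₁ * z₂ + b * z₂ ^ 2 = 0 → z₁ = 0 ∧ z₂ = 0) ∧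
        Nonempty (K ≃* POmega F (quadFormMinus (m - 1) F a b)))))
    {x : K} (hx : x ^ p = 1) (hPC : PC p x) : x = 1 := by
  obtain ⟨F, _, _, _, ⟨m, hm, ⟨e⟩⟩ | ⟨m, hm, ⟨e⟩⟩ | ⟨m, a, b, hm, hab, ⟨e⟩⟩⟩ := hK
  · exact of_odd hp5 m hm e hx hPC
  · exact of_plus hp5 m hm e hx hPC
  · exact of_minus hp5 (m - 1) (by omega) hab e hx hPC

end Cfsg.Agent.H451.Tor.Orth
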