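import Mathlib
import Cfsg.Agent.H103.Tor.Iface
import Cfsg.Agent.H451.Tor.OrthRows
import Cfsg.Agent.S0244
import Cfsg.Agent.LieClassical.FieldTransfer

/-!
# Rows of S3235 in their own characteristic: symplectic, unitary, orthogonal groups

* `Pr.pc` : the elements of `A` commute with their conjugates which generate a `p`-group with them;
* `target_psl2`, `row_pspOwn`, `row_psuOwn`, `row_oddOwn`, `row_plusOwn`, `row_minusOwn`.
-/

set_option autoImplicit false

namespace Cfsg.Agent.H451.Tor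

open Subgroup Cfsg
open Cfsg.Agent.H103.Tor (cj Cm Pr Pair Row Target SLT conj_mem_cj)

universe w

/-- the elements of `A` satisfy `PC` -/
theorem pc {p : ℕ} (hp : p.Prime) (hp5 : 5 ≤ p) {K : Type*} [Group K] [Finite K] {A : Subgroup K}
    (h : Pr p A) {a : K} (ha : a ∈ A) : Orth.PC p a := by
  have := Fact.mk hp
  intro g hg
  by_contra hc
  have hnc : ¬ Cm A (cj g A) := fun hcm => hc (hcm a ha _ (conj_mem_cj ha))
  have ha1 : a ≠ 1 := by
    rintro rfl
    apply hc
    simp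
  have hA : A = zpowers a := by
    have h1 : zpowers a ≤ A := by rwa [zpowers_le]
    refine (Subgroup.eq_of_le_of_card_ge h1 ?_).symm
    have h2 : Nat.card (zpowers a) ∣ Nat.card A := Subgroup.card_dvd_of_le h1
    rw [h.card] at h2 ⊢
    rcases (Nat.dvd_prime hp).1 h2 with h3 | h3
    · exact absurd (Subgroup.zpowers_eq_bot.1 (Subgroup.card_eq_one.1 h3)) ha1
    · rw [h3]
  have h1 : A ⊔ cj g A ≤ closure ({a, g * a * g⁻¹} : Set K) := by
    refine sup_le ?_ ?_
    · rw [hA, zpowers_le]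
      exact subset_closure (by simp)
    · rw [hA]
      rintro _ ⟨b, hb, rfl⟩
      obtain ⟨n, rfl⟩ := mem_zpowers_iff.1 hb
      have : (MulAut.conj g).toMonoidHom (a ^ n) = (g * a * g⁻¹) ^ n := by
        rw [map_zpow]; rfl
      rw [this]
      exact zpow_mem (subset_closure (by simp)) n
  have hs : Group.IsSolvable (closure ({a, g * a * g⁻¹} : Set K)) := by
    have : Group.IsNilpotent (closure ({a, g * a * g⁻¹} : Set K)) := hg.isNilpotent
    infer_instance
  exact (h.exists_pair hp hp5 hnc).not_solvable hp hp5 h.card h1 hs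

/-- a row is empty if no element `≠ 1` of order `p` satisfies `PC` -/
theorem row_of_pc {p : ℕ} (hp : p.Prime) (hp5 : 5 ≤ p) {K : Type*} [Group K] [Finite K]
    (h : ∀ a : K, a ^ p = 1 → Orth.PC p a → a = 1) : Row p K := by
  intro A hA
  exfalso
  have h1 : A = ⊥ := by
    rw [Subgroup.eq_bot_iff_forall]
    intro a ha
    apply h a _ (pc hp hp5 hA ha)
    have h2 := pow_card_eq_one' (G := A) (x := ⟨a, ha⟩)
    rw [hA.card] at h2
    exact congrArg Subtype.val h2
  have h2 := hA.card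
  rw [h1, Subgroup.card_bot] at h2
  exact hp.one_lt.ne h2

section Small

variable (F : Type) [Field F]

/-- `Sp_2 = SL_2` -/
def spTwo : Matrix.symplecticGroup (Fin 1) F ≃* Matrix.SpecialLinearGroup (Fin 2) F where
  toFun A := ⟨Matrix.reindex finSumFinEquiv finSumFinEquiv (A : Matrix (Fin 1 ⊕ Fin 1) (Fin 1 ⊕ Fin 1) F), by
    rw [Matrix.det_reindex_self]
    exact (S0244.result _).1 A.2⟩
  invFun A := ⟨Matrix.reindex finSumFinEquiv.symm finSumFinEquiv.symm (A : Matrix (Fin 2) (Fin 2) F), by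
    rw [S0244.result, Matrix.det_reindex_self]
    exact A.2⟩
  left_inv A := by
    apply Subtype.ext
    ext i j
    simp
  right_inv A := by
    apply Subtype.ext
    ext i j
    simp
  map_mul' A B := by
    apply Subtype.ext
    change Matrix.reindex finSumFinEquiv finSumFinEquiv (A.1 * B.1) =
      Matrix.reindex finSumFinEquiv finSumFinEquiv A.1 * Matrix.reindex finSumFinEquiv finSumFinEquiv B.1
    rw [Matrix.reindex_apply, Matrix.reindex_apply, Matrix.reindex_apply, Matrix.submatrix_mul_equiv]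

/-- `PSp_2 = PSL_2` -/
def pspOne : PSp 1 F ≃* Matrix.ProjectiveSpecialLinearGroup (Fin 2) F :=
  LieClassical.FieldTransfer.centralQuotientCongr (spTwo F)

end Small

theorem target_psl2 {p : ℕ} {K : Type*} [Group K] (h : ∃ (F : Type) (_ : Field F) (_ : Fintype F) (_ : CharP F p),
    Nonempty (K ≃* Matrix.ProjectiveSpecialLinearGroup (Fin 2) F)) : Target p K := by
  obtain ⟨F, i1, i2, i3, ⟨e⟩⟩ := h
  exact ⟨F, i1, i2, ringChar.eq_iff.2 i3, Or.inl ⟨1, le_rfl, ⟨e.trans (pspOne F).symm⟩⟩⟩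

theorem target_psp {p : ℕ} {K : Type*} [Group K] (h : IsPSpChar p K) : Target p K := by
  obtain ⟨F, i1, i2, i3, m, hm, -, e⟩ := h
  exact ⟨F, i1, i2, ringChar.eq_iff.2 i3, Or.inl ⟨m, by omega, e⟩⟩

theorem target_psu {p : ℕ} {K : Type*} [Group K] (h : IsPSUChar p K) : Target p K := by
  obtain ⟨F, i1, i2, i3, n, q, hq, hn, -, e⟩ := h
  exact ⟨F, i1, i2, ringChar.eq_iff.2 i3, Or.inr ⟨n, q, by omega, hq, e⟩⟩

theorem row_pspOwn {p : ℕ} {K : Type*} [Group K] (h : IsPSpChar p K) : Row p K :=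
  fun _ _ => target_psp h

theorem row_psuOwn {p : ℕ} {K : Type*} [Group K] (h : IsPSUChar p K) : Row p K :=
  fun _ _ => target_psu h

theorem row_oddOwn {p : ℕ} (hp : p.Prime) (hp5 : 5 ≤ p) {K : Type*} [Group K] [Finite K]
    (h : IsPOmegaOddChar p K) : Row p K := by
  have := Fact.mk hp
  obtain ⟨F, i1, i2, i3, m, hm, -, e⟩ := h
  exact row_of_pc hp hp5 fun a ha hPC => Orth.of_isPOmega (by omega) ⟨F, i1, i2, i3, Or.inl ⟨m, hm, e⟩⟩ ha hPC

theorem row_plusOwn {p : ℕ} (hp : p.Prime) (hp5 : 5 ≤ p) {K : Type*} [Group K] [Finite K]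
    (h : IsPOmegaPlusChar p K) : Row p K := by
  have := Fact.mk hp
  obtain ⟨F, i1, i2, i3, m, hm, e⟩ := h
  exact row_of_pc hp hp5 fun a ha hPC =>
    Orth.of_isPOmega (by omega) ⟨F, i1, i2, i3, Or.inr (Or.inl ⟨m, hm, e⟩)⟩ ha hPC

theorem row_minusOwn {p : ℕ} (hp : p.Prime) (hp5 : 5 ≤ p) {K : Type*} [Group K] [Finite K]
    (h : IsPOmegaMinusChar p K) : Row p K := by
  have := Fact.mk hp
  obtain ⟨F, i1, i2, i3, m, a, b, hm, hab, e⟩ := h
  exact row_of_pc hp hp5 fun x hx hPC =>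
    Orth.of_isPOmega (by omega) ⟨F, i1, i2, i3, Or.inr (Or.inr ⟨m, a, b, hm, hab, e⟩)⟩ hx hPC

end Cfsg.Agent.H451.Tor
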