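import Mathlib
import Cfsg.Agent.KFacts.RgdOwn
import Cfsg.Agent.KFacts.RgdSyl
import Cfsg.Agent.H939.RgdV
import Cfsg.Agent.H451.Tor.OrthRows

/-!
# Root group data whose nodes all have a simple bond, in odd characteristic (for S3235)

`G` simple with a root group datum of odd characteristic `p`, such that every node of the diagram has a bond of
order three. If the conjugates in `U` of an element `u` of `U` commute with each other then `u = 1` (`eq_one`).
-/

set_option autoImplicit false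
set_option linter.unusedSectionVars false

namespace Cfsg.Agent.H451.Tor.Edge

open CoxeterSystem Cfsg.Agent.ChevalleyStructure.CoxeterGeom Cfsg.Agent.Tits.Roots Cfsg.Agent.Tits.Core
  Cfsg.Agent.Tits.RootComb Cfsg.Agent.Tits.Exchange Cfsg.Agent.Nodes.Reps Cfsg.Agent.Nodes.BNOf
  Cfsg.Agent.Nodes.StabComb Cfsg.Agent.Nodes.Bruhat Cfsg.Agent.Nodes.OppDec Cfsg.Agent.Nodes.LeviDec
  Cfsg.Agent.Nodes.NormX Cfsg.Agent.Nodes.Coroot Cfsg.Agent.KFacts.RgdSL Cfsg.Agent.Nodes.PosPair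
  Cfsg.Agent.Nodes.Comb Cfsg.Agent.H939.RgdV
open scoped commutatorElement

variable {I W Y : Type*} [Fintype I] [DecidableEq I] [Group W] [Group Y] {M : CoxeterMatrix I}
  {cs : CoxeterSystem M W} {A : I → I → ℤ} {h : IsCartan M A} {p : ℕ} {T : Subgroup Y} {n : I → Y}
  {X : (I → ℤ) → Subgroup Y}

theorem exists_ne_one [Finite W] (R : RGD cs h p T n X) {x : I → ℤ} (hx : IsRoot cs h x) : ∃ a ∈ X x, a ≠ 1 := by
  have := X_ne_bot R hx
  rw [Subgroup.ne_bot_iff_exists_ne_one] at this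
  obtain ⟨⟨a, ha⟩, h1⟩ := this
  exact ⟨a, ha, fun h2 => h1 (Subtype.ext h2)⟩

theorem conj_T_mem (R : RGD cs h p T n X) {x : I → ℤ} (hx : IsRoot cs h x) {t u : Y} (ht : t ∈ T) (hu : u ∈ X x) :
    t * u * t⁻¹ ∈ X x := by
  have h1 := R.tor x hx t ht
  rw [← h1]
  exact conj_mem_cj.2 hu

/-- In an `A₂`-plane there is an element of `T` centralising `X x` and inverting `X y`. -/
theorem exists_inv [Finite W] (R : RGD cs h p T n X) {x y : I → ℤ} (hA : A2 cs h x y) :
    ∃ t ∈ T, (∀ u ∈ X x, t * u * t⁻¹ = u) ∧ ∀ v ∈ X y, t * v * t⁻¹ = v⁻¹ := by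
  obtain ⟨u, hu, hu1⟩ := exists_ne_one R hA.rx
  obtain ⟨s, hs, a, ha, b, hb, m, hm, he⟩ := exists_mu R hA.rx hu hu1
  have hce : ∀ v ∈ X y, ⁅u, v⁆ = m * v * m⁻¹ := fun v hv => A2.comm_eq R hA hu hv ha hb hs hm he
  have hmc : ∀ v ∈ X y, m * ⁅u, v⁆ * m⁻¹ = v⁻¹ := fun v hv => A2.mu_comm R hA hu hu1 hv ha hb hs hm he
  have hss : s * s = 1 := by
    refine eq_one_of_fix cs h _ fun i => ?_
    generalize (Pi.single i 1 : I → ℤ) = z
    rw [rep_mul_apply, hs z, map_sub, map_smul, hs z, hs x, cpr_self cs h hA.rx]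
    module
  have hT : m * m ∈ T := by
    have h1 := hm.mul hm
    rw [hss] at h1
    have h2 := (rp_one (cs := cs) (hN := R.nsys)).unique h1
    rwa [inv_one, one_mul] at h2
  have hinv : ∀ v ∈ X y, (m * m) * v * (m * m)⁻¹ = v⁻¹ := by
    intro v hv
    rw [← hmc v hv, hce v hv]; group
  refine ⟨m * m, hT, ?_, hinv⟩
  intro u' hu'
  obtain ⟨v, hv, hv1⟩ := exists_ne_one R hA.ry
  have hu'' := conj_T_mem R hA.rx hT hu'
  -- `t` inverts `X (x + y)`
  have hinv2 : ∀ w ∈ X (x + y), (m * m) * w * (m * m)⁻¹ = w⁻¹ := by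
    intro w hw
    obtain ⟨v', hv', e⟩ := A2.comm_surj R hA hu hu1 hw
    have e1 := hinv v' hv'
    rw [← e, hce v' hv']
    calc (m * m) * (m * v' * m⁻¹) * (m * m)⁻¹ = m * ((m * m) * v' * (m * m)⁻¹) * m⁻¹ := by group
      _ = m * v'⁻¹ * m⁻¹ := by rw [e1]
      _ = (m * v' * m⁻¹)⁻¹ := by group
  have h1 : ⁅(m * m) * u' * (m * m)⁻¹, v⁻¹⁆ = ⁅u', v⁆⁻¹ := by
    rw [← hinv2 _ (A2.comm_mem R hA hu' hv), ← hinv v hv]
    rw [commutatorElement_def, commutatorElement_def]; group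
  have h2 : ⁅u', v⁻¹⁆ = ⁅u', v⁆⁻¹ := by
    have h3 := A2.comm_mul R hA hu' hv (inv_mem hv)
    rw [mul_inv_cancel] at h3
    have h4 : ⁅u', (1 : Y)⁆ = 1 := by simp [commutatorElement_def]
    rw [h4] at h3
    exact (inv_eq_of_mul_eq_one_right h3.symm).symm
  have h3 : ⁅v⁻¹, (m * m) * u' * (m * m)⁻¹⁆ = ⁅v⁻¹, u'⁆ := by
    rw [← commutatorElement_inv, h1, ← h2, commutatorElement_inv]
  exact A2.comm_inj R hA.symm (inv_mem hv) (fun h0 => hv1 (inv_eq_one.1 h0)) hu'' hu' h3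

/-- All conjugates of `u` in `U` commute with each other. -/
def CC (U : Subgroup Y) (u : Y) : Prop := ∀ g k : Y, g * u * g⁻¹ ∈ U → k * u * k⁻¹ ∈ U →
  (g * u * g⁻¹) * (k * u * k⁻¹) = (k * u * k⁻¹) * (g * u * g⁻¹)

theorem CC.conj {U : Subgroup Y} {u : Y} (hc : CC U u) (g : Y) : CC U (g * u * g⁻¹) := by
  intro a b ha hb
  have e : ∀ a : Y, a * (g * u * g⁻¹) * a⁻¹ = (a * g) * u * (a * g)⁻¹ := fun a => by group
  rw [e] at ha hb
  rw [e, e]
  exact hc _ _ ha hb

theorem conj_mem_VJ (R : RGD cs h p T n X) {J : Set I} {l v : Y} (hl : l ∈ LJ cs h T X J) (hv : v ∈ VJ cs h X J) :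
    l * v * l⁻¹ ∈ VJ cs h X J :=
  (Subgroup.mem_normalizer_iff.1 (LJ_le_normalizer_VJ R J hl) v).1 hv

theorem conj_mem_VJ' (R : RGD cs h p T n X) {J : Set I} {l v : Y} (hl : l ∈ LJ cs h T X J) (hv : v ∈ VJ cs h X J) :
    l⁻¹ * v * l ∈ VJ cs h X J := by
  have := conj_mem_VJ R (inv_mem hl) hv
  rwa [inv_inv] at this

/-- commuting elements of `P_J` have commuting Levi components -/
theorem comm_mod [Finite W] (R : RGD cs h p T n X) {J : Set I} {l k v w : Y} (hl : l ∈ LJ cs h T X J)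
    (hk : k ∈ LJ cs h T X J) (hv : v ∈ VJ cs h X J) (hw : w ∈ VJ cs h X J)
    (hc : (l * v) * (k * w) = (k * w) * (l * v)) : l * k = k * l := by
  have h1 := conj_mem_VJ' R hk hv
  have h2 := conj_mem_VJ' R hl hw
  have h3 : (k * l)⁻¹ * (l * k) = (l⁻¹ * w * l * v) * (k⁻¹ * v * k * w)⁻¹ := by
    have e1 : (l * k) * (k⁻¹ * v * k * w) = (k * l) * (l⁻¹ * w * l * v) := by
      calc (l * k) * (k⁻¹ * v * k * w) = (l * v) * (k * w) := by group
        _ = (k * w) * (l * v) := hc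
        _ = (k * l) * (l⁻¹ * w * l * v) := by group
    rw [inv_mul_eq_iff_eq_mul, ← mul_assoc, ← e1]; group
  have h4 : (k * l)⁻¹ * (l * k) = 1 := by
    refine eq_one_of_mem_LJ_of_mem_VJ R (J := J) ?_ ?_
    · exact mul_mem (inv_mem (mul_mem hk hl)) (mul_mem hl hk)
    · rw [h3]
      exact mul_mem (mul_mem h2 hv) (inv_mem (mul_mem h1 hw))
  exact (inv_mul_eq_one.1 h4).symm

theorem eq_one_of_mul_self {p : ℕ} (hp : p.Prime) (hp2 : p ≠ 2) {P : Subgroup Y} (hP : IsPGroup p P) {b : Y}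
    (hb : b ∈ P) (h2 : b * b = 1) : b = 1 := by
  obtain ⟨k, hk⟩ := hP ⟨b, hb⟩
  have hk' : b ^ p ^ k = 1 := congrArg Subtype.val hk
  have h3 : orderOf b ∣ p ^ k := orderOf_dvd_of_pow_eq_one hk'
  have h4 : orderOf b ∣ 2 := orderOf_dvd_of_pow_eq_one (by rw [pow_two]; exact h2)
  have h5 : Nat.Coprime (p ^ k) 2 := by
    apply Nat.Coprime.pow_left
    exact (Nat.coprime_primes hp Nat.prime_two).2 hp2
  have h6 : orderOf b ∣ 1 := by
    rw [← h5]
    exact Nat.dvd_gcd h3 h4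
  exact orderOf_eq_one_iff.1 (Nat.dvd_one.1 h6)

/-- the edge argument -/
theorem mem_V [Finite W] (R : RGD cs h p T n X) (hp : p.Prime) (hp2 : p ≠ 2) {i j : I} (hM : M i j = 3) {u : Y}
    (hu : u ∈ RGD.Sup X (RGD.Pos cs h)) (hc : CC (RGD.Sup X (RGD.Pos cs h)) u) : u ∈ VJ cs h X {i} := by
  have hij : i ≠ j := by
    rintro rfl
    rw [M.diagonal] at hM; omega
  have hA := a2_simple (cs := cs) (h := h) hM
  have hA' : A i j = -1 ∧ A j i = -1 := by
    rcases h.rel i j hij with h1 | h1 | h1 | h1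
    · omega
    · exact h1.2
    · omega
    · omega
  -- decomposition
  obtain ⟨a, ha, x, hx, rfl⟩ : ∃ a ∈ X (sr i), ∃ x ∈ VJ cs h X {i}, u = a * x := by
    have h1 : u ∈ ((X (sr i) ⊔ VJ cs h X {i} : Subgroup Y) : Set Y) := by
      have h2 : RGD.Sup X (RGD.Pos cs h) ≤ X (sr i) ⊔ VJ cs h X {i} := by
        rw [R.Upos_eq i]
        refine sup_le_sup_left (RGD.Sup_mono ?_) _
        rintro x ⟨hxr, h0, hne⟩
        obtain ⟨k, hk, hk'⟩ := RGD.exists_coeff hxr h0 hne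
        exact ⟨hxr, h0, k, hk, hk'⟩
      exact h2 hu
    have h3 : X (sr i) ≤ Subgroup.normalizer (VJ cs h X {i} : Set Y) :=
      (X_le_LJ (PosJ_subset _ (sr_mem_PosJ (Set.mem_singleton i)))).trans (LJ_le_normalizer_VJ R {i})
    rw [Subgroup.coe_mul_of_left_le_normalizer_right _ _ h3, Set.mem_mul] at h1
    obtain ⟨a, ha, x, hx, e⟩ := h1
    exact ⟨a, ha, x, hx, e.symm⟩
  obtain ⟨l, hl, q, hq, rfl⟩ := V_decomp R (j := j) hx
  obtain ⟨b, hb, c, hcX, rfl⟩ := QQ_three R hM hl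
  by_cases ha1 : a = 1
  · rw [ha1, one_mul]; exact hx
  exfalso
  have hiJ : i ∈ ({i, j} : Set I) := Or.inl rfl
  have hjJ : j ∈ ({i, j} : Set I) := Or.inr rfl
  have hXi : X (sr i) ≤ LJ cs h T X {i, j} := X_le_LJ (PosJ_subset _ (sr_mem_PosJ hiJ))
  have hXj : X (sr j) ≤ LJ cs h T X {i, j} := X_le_LJ (PosJ_subset _ (sr_mem_PosJ hjJ))
  have hXij : X (sr i + sr j) ≤ LJ cs h T X {i, j} := by
    refine X_le_LJ ⟨hA.rxy, fun k hk => ?_⟩
    rw [Set.mem_insert_iff, Set.mem_singleton_iff, not_or] at hk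
    rw [Pi.add_apply, sr_ne hk.1, sr_ne hk.2, add_zero]
  have hVU : VJ cs h X {i, j} ≤ RGD.Sup X (RGD.Pos cs h) := VJ_le_U _
  have hUj : X (sr j) ≤ RGD.Sup X (RGD.Pos cs h) :=
    RGD.le_Sup (S := RGD.Pos cs h) ⟨isRoot_sr cs h j, sr_nonneg j⟩
  by_cases hb1 : b = 1
  · -- case B
    subst hb1
    obtain ⟨s, hs, e⟩ := A2.comm_surj R hA (inv_mem ha) (fun h0 => ha1 (inv_eq_one.1 h0)) (inv_mem hcX)
    have hcs : c * s = s * c := A2.comm_right R hA hcX hs
    have e1 : s * (a * (1 * c * q)) * s⁻¹ = a * (s * q * s⁻¹) := by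
      have e2 : s * a * s⁻¹ = a * c⁻¹ := by
        rw [← e, commutatorElement_def]; group
      calc s * (a * (1 * c * q)) * s⁻¹ = (s * a * s⁻¹) * (s * c) * q * s⁻¹ := by group
        _ = (a * c⁻¹) * (c * s) * q * s⁻¹ := by rw [e2, hcs]
        _ = a * (s * q * s⁻¹) := by group
    have hq1 : s * q * s⁻¹ ∈ VJ cs h X {i, j} := conj_mem_VJ R (hXj hs) hq
    set w := n i * n j with hw
    have hRw : Rp cs R.nsys (cs.simple i * cs.simple j) w := (rp_simple cs R.nsys i).mul (rp_simple cs R.nsys j)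
    have hact : rep cs h (cs.simple i * cs.simple j) (sr i) = sr j := by
      rw [rep_mul_apply, rep_simple_eq cs h j (sr i), map_sub, map_smul, rep_simple_sr, rep_simple_eq cs h i (sr j)]
      have e1 : pairing A i (sr j) = A i j := by
        have := pairing_single A i j 1
        rw [mul_one] at this
        exact this
      have e2 : pairing A j (sr i) = A j i := by
        have := pairing_single A j i 1
        rw [mul_one] at this
        exact this
      rw [e1, e2, hA'.1, hA'.2]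
      module
    have hWJ : cs.simple i * cs.simple j ∈ WJ cs ({i, j} : Set I) :=
      mul_mem (simple_mem_WJ cs hiJ) (simple_mem_WJ cs hjJ)
    have ha2 : w * a * w⁻¹ ∈ X (sr j) := by
      have := R.conj_mem hRw (isRoot_sr cs h i) ha
      rwa [hact] at this
    have hq2 : w * (s * q * s⁻¹) * w⁻¹ ∈ VJ cs h X {i, j} :=
      conj_mem_Sup R hRw (fun x hx => hx.1) (fun x hx => NotJ.act hWJ hx) hq1
    have e3 : (w * s) * (a * (1 * c * q)) * (w * s)⁻¹ = (w * a * w⁻¹) * (w * (s * q * s⁻¹) * w⁻¹) := by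
      calc (w * s) * (a * (1 * c * q)) * (w * s)⁻¹ = w * (s * (a * (1 * c * q)) * s⁻¹) * w⁻¹ := by group
        _ = w * (a * (s * q * s⁻¹)) * w⁻¹ := by rw [e1]
        _ = _ := by group
    have hXiU : X (sr i) ≤ RGD.Sup X (RGD.Pos cs h) :=
      RGD.le_Sup (S := RGD.Pos cs h) ⟨isRoot_sr cs h i, sr_nonneg i⟩
    have h1 := hc s (w * s) (by rw [e1]; exact mul_mem (hXiU ha) (hVU hq1))
      (by rw [e3]; exact mul_mem (hUj ha2) (hVU hq2))
    rw [e1, e3] at h1
    have h2 := comm_mod R (J := {i, j}) (hXi ha) (hXj ha2) hq1 hq2 h1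
    have h3 : w * a * w⁻¹ = 1 := by
      by_contra h4
      exact A2.comm_ne_one R hA ha ha1 ha2 h4 (commutatorElement_eq_one_iff_mul_comm.2 h2)
    apply ha1
    have : a = w⁻¹ * (w * a * w⁻¹) * w := by group
    rw [this, h3]; group
  · -- case A
    obtain ⟨t, ht, ht1, ht2⟩ := exists_inv R hA
    have hc2 : t * c * t⁻¹ ∈ X (sr i + sr j) := conj_T_mem R hA.rxy ht hcX
    have htL : t ∈ LJ cs h T X {i, j} := T_le_LJ ht
    have hq2 : t * q * t⁻¹ ∈ VJ cs h X {i, j} := conj_mem_VJ R htL hq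
    have e1 : t * (a * (b * c * q)) * t⁻¹ = (a * b⁻¹ * (t * c * t⁻¹)) * (t * q * t⁻¹) := by
      calc t * (a * (b * c * q)) * t⁻¹ = (t * a * t⁻¹) * (t * b * t⁻¹) * (t * c * t⁻¹) * (t * q * t⁻¹) := by group
        _ = _ := by rw [ht1 a ha, ht2 b hb]
    have e0 : a * (b * c * q) = (a * b * c) * q := by group
    have h1 := hc 1 t (by rw [one_mul, inv_one, mul_one]; exact hu)
      ((Subgroup.mem_normalizer_iff.1 (R.T_le_normalizer_U ht) _).1 hu)
    rw [one_mul, inv_one, mul_one, e1, e0] at h1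
    have h2 := comm_mod R (J := {i, j}) (mul_mem (mul_mem (hXi ha) (hXj hb)) (hXij hcX))
      (mul_mem (mul_mem (hXi ha) (inv_mem (hXj hb))) (hXij hc2)) hq hq2 h1
    set c' := t * c * t⁻¹ with hc'
    have k1 : Commute c a := A2.comm_left R hA hcX ha
    have k2 : Commute c b := A2.comm_right R hA hcX hb
    have k3 : Commute c' a := A2.comm_left R hA hc2 ha
    have k4 : Commute c' b := A2.comm_right R hA hc2 hb
    have k5 : Commute c c' := A2.comm_self R hA hcX hc2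
    have k6 : c * (a * b⁻¹) = (a * b⁻¹) * c := (k1.mul_right k2.inv_right).eq
    have k7 : c' * (a * b) = (a * b) * c' := (k3.mul_right k4).eq
    have h3 : (a * b) * (a * b⁻¹) = (a * b⁻¹) * (a * b) := by
      have e2 : (a * b * c) * (a * b⁻¹ * c') = ((a * b) * (a * b⁻¹)) * (c * c') := by
        calc (a * b * c) * (a * b⁻¹ * c') = a * b * (c * (a * b⁻¹)) * c' := by group
          _ = a * b * ((a * b⁻¹) * c) * c' := by rw [k6]
          _ = _ := by group
      have e3 : (a * b⁻¹ * c') * (a * b * c) = ((a * b⁻¹) * (a * b)) * (c * c') := by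
        calc (a * b⁻¹ * c') * (a * b * c) = a * b⁻¹ * (c' * (a * b)) * c := by group
          _ = a * b⁻¹ * ((a * b) * c') * c := by rw [k7]
          _ = ((a * b⁻¹) * (a * b)) * (c' * c) := by group
          _ = _ := by rw [k5.eq]
      rw [e2, e3] at h2
      exact mul_right_cancel h2
    have h4 : a * (b * b) = (b * b) * a := by
      have e2 : b * a * b⁻¹ = b⁻¹ * a * b := by
        apply mul_left_cancel (a := a)
        calc a * (b * a * b⁻¹) = (a * b) * (a * b⁻¹) := by group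
          _ = (a * b⁻¹) * (a * b) := h3
          _ = _ := by group
      calc a * (b * b) = b * (b⁻¹ * a * b) * b := by group
        _ = b * (b * a * b⁻¹) * b := by rw [e2]
        _ = (b * b) * a := by group
    apply hb1
    refine eq_one_of_mul_self hp hp2 (R.pgrp j) hb ?_
    by_contra h5
    exact A2.comm_ne_one R hA ha ha1 (mul_mem hb hb) h5 (commutatorElement_eq_one_iff_mul_comm.2 h4)

/-- `G` is generated by `T`, `U` and the `n i`. -/
theorem gen_le [Finite W] (R : RGD cs h p T n X) {K : Subgroup Y} (hT : T ≤ K) (hU : RGD.Sup X (RGD.Pos cs h) ≤ K)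
    (hn : ∀ i, n i ∈ K) : GG cs h T X ≤ K := by
  have key : ∀ ω : List I, ∃ k ∈ K, Rp cs R.nsys (cs.wordProd ω) k := by
    intro ω
    induction ω with
    | nil => exact ⟨1, one_mem _, by rw [wordProd_nil]; exact rp_one⟩
    | cons i ω ih =>
      obtain ⟨k, hk, e⟩ := ih
      exact ⟨n i * k, mul_mem (hn i) hk, by rw [wordProd_cons]; exact (rp_simple cs R.nsys i).mul e⟩
  intro g hg
  obtain ⟨w, b₁, hb₁, k, hk, b₂, hb₂, rfl⟩ := (mem_GG R).1 hg
  have hB : RGD.B cs h T X ≤ K := sup_le hT hU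
  obtain ⟨ω, rfl⟩ := cs.wordProd_surjective w
  obtain ⟨k', hk', e⟩ := key ω
  have h1 := e.unique hk
  have h2 : k = k' * (k'⁻¹ * k) := by group
  rw [h2]
  exact mul_mem (mul_mem (hB hb₁) (mul_mem hk' (hT h1))) (hB hb₂)

/-- all conjugates of `u` lie in `U` -/
theorem conj_mem_U [Finite W] [Finite Y] (R : RGD cs h p T n X) (hp : p.Prime) (hp2 : p ≠ 2)
    (hG : GG cs h T X = ⊤) (hE : ∀ i, ∃ j, M i j = 3) {u : Y} (hu : u ∈ RGD.Sup X (RGD.Pos cs h))
    (hc : CC (RGD.Sup X (RGD.Pos cs h)) u) (g : Y) : g * u * g⁻¹ ∈ RGD.Sup X (RGD.Pos cs h) := by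
  let U := RGD.Sup X (RGD.Pos cs h)
  let S : Submonoid Y :=
    { carrier := {g | ∀ y ∈ U, CC U y → g * y * g⁻¹ ∈ U}
      one_mem' := by intro y hy _; simpa using hy
      mul_mem' := by
        intro a b ha hb y hy hgy
        have h1 := ha _ (hb y hy hgy) (hgy.conj b)
        have e : a * b * y * (a * b)⁻¹ = a * (b * y * b⁻¹) * a⁻¹ := by group
        rw [e]; exact h1 }
  let K : Subgroup Y :=
    { S with
      inv_mem' := by
        intro g hg
        have : g⁻¹ = g ^ (orderOf g - 1) := by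
          rw [eq_comm, ← mul_eq_one_iff_eq_inv, ← pow_succ, Nat.sub_add_cancel (orderOf_pos g), pow_orderOf_eq_one]
        rw [this]
        exact S.pow_mem hg _ }
  have hT : T ≤ K := fun t ht y hy _ => (Subgroup.mem_normalizer_iff.1 (R.T_le_normalizer_U ht) _).1 hy
  have hU : U ≤ K := fun g hg y hy _ => mul_mem (mul_mem hg hy) (inv_mem hg)
  have hn : ∀ i, n i ∈ K := by
    intro i y hy hgy
    obtain ⟨j, hj⟩ := hE i
    have h1 : y ∈ RGD.Sup X (RGD.PosNe cs h i) := by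
      refine RGD.Sup_mono ?_ (mem_V R hp hp2 hj hy hgy)
      rintro x ⟨hx, h0, k, hk, hk'⟩
      refine ⟨hx, h0, ?_⟩
      rintro rfl
      rw [sr_ne hk] at hk'
      exact lt_irrefl _ hk'
    have h2 : n i * y * (n i)⁻¹ ∈ RGD.Sup X (RGD.PosNe cs h i) := by
      rw [← R.cj_n_V i]
      exact conj_mem_cj.2 h1
    have h3 : RGD.Sup X (RGD.PosNe cs h i) ≤ RGD.Sup X (RGD.Pos cs h) :=
      RGD.Sup_mono fun x (hx : IsRoot cs h x ∧ 0 ≤ x ∧ x ≠ sr i) => ⟨hx.1, hx.2.1⟩
    exact h3 h2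
  have hK : g ∈ K := gen_le R hT hU hn (by rw [hG]; exact Subgroup.mem_top g)
  exact hK u hu hc

/-- an element of `U` whose conjugates in `U` commute -/
theorem eq_one_of_mem [Finite W] [Finite Y] [IsSimpleGroup Y] [Nonempty I] (R : RGD cs h p T n X) (hp : p.Prime)
    (hp2 : p ≠ 2) (hG : GG cs h T X = ⊤) (hE : ∀ i, ∃ j, M i j = 3) {u : Y} (hu : u ∈ RGD.Sup X (RGD.Pos cs h))
    (hc : CC (RGD.Sup X (RGD.Pos cs h)) u) : u = 1 := by
  have h1 : Subgroup.normalClosure ({u} : Set Y) ≤ RGD.Sup X (RGD.Pos cs h) := by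
    rw [Subgroup.normalClosure, Subgroup.closure_le]
    intro y hy
    obtain ⟨z, hz, hcz⟩ := Group.mem_conjugatesOfSet_iff.1 hy
    rw [Set.mem_singleton_iff] at hz
    subst hz
    obtain ⟨g, hg⟩ := isConj_iff.1 hcz
    rw [← hg]
    exact conj_mem_U R hp hp2 hG hE hu hc g
  rcases (Subgroup.normalClosure_normal (s := ({u} : Set Y))).eq_bot_or_eq_top with h2 | h2
  · have h3 : u ∈ Subgroup.normalClosure ({u} : Set Y) := Subgroup.subset_normalClosure (Set.mem_singleton u)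
    rwa [h2, Subgroup.mem_bot] at h3
  · rw [h2] at h1
    obtain ⟨i⟩ := ‹Nonempty I›
    exact absurd (R.isPGroup_Upos.to_le (le_top.trans h1)) (R.notp i)

/-- **The row.** -/
theorem eq_one [Finite W] [Finite Y] [IsSimpleGroup Y] [Nonempty I] (R : RGD cs h p T n X) [hp : Fact p.Prime]
    (hp2 : p ≠ 2) (hG : GG cs h T X = ⊤) (hE : ∀ i, ∃ j, M i j = 3) {x : Y} (hx : x ^ p = 1)
    (hPC : Orth.PC p x) : x = 1 := by
  have hUp : IsPGroup p ↥(RGD.Sup X (RGD.Pos cs h)) := R.isPGroup_Upos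
  have hind : ¬ p ∣ (RGD.Sup X (RGD.Pos cs h)).index := by
    have := Cfsg.Agent.KFacts.RgdSyl.not_dvd_relIndex R
    rwa [hG, Subgroup.relIndex_top_right] at this
  have hz : IsPGroup p (Subgroup.zpowers x) := by
    by_cases h1 : x = 1
    · rw [h1, Subgroup.zpowers_one_eq_bot]
      exact IsPGroup.of_bot
    · apply IsPGroup.of_card (n := 1)
      rw [Nat.card_zpowers, pow_one, orderOf_eq_prime hx h1]
  obtain ⟨Q, hQ⟩ := hz.exists_le_sylow
  obtain ⟨g, hg⟩ := MulAction.exists_smul_eq Y Q (hUp.toSylow hind)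
  have h1 : g * x * g⁻¹ ∈ RGD.Sup X (RGD.Pos cs h) := by
    have h2 : x ∈ (Q : Subgroup Y) := hQ (Subgroup.mem_zpowers x)
    have h3 : g * x * g⁻¹ ∈ ((g • Q : Sylow p Y) : Subgroup Y) := by
      rw [Sylow.coe_subgroup_smul, Subgroup.mem_pointwise_smul_iff_inv_smul_mem]
      have : (MulAut.conj g)⁻¹ • (g * x * g⁻¹) = x := by
        rw [← map_inv]
        simp [MulAut.smul_def]
        group
      rw [this]; exact h2
    rw [hg] at h3
    exact h3
  have hconj : ∀ (g : Y) (y : Y), Orth.PC p y → Orth.PC p (g * y * g⁻¹) := fun g y hy => by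
    have := hy.of_equiv (MulAut.conj g)
    simpa [MulAut.conj_apply] using this
  have hcc : CC (RGD.Sup X (RGD.Pos cs h)) x := by
    intro a b ha hb
    have h2 := hconj a x hPC (b * a⁻¹)
    have e : b * a⁻¹ * (a * x * a⁻¹) * (b * a⁻¹)⁻¹ = b * x * b⁻¹ := by group
    rw [e] at h2
    refine h2 (hUp.to_le ?_)
    rw [Subgroup.closure_le]
    rintro y (rfl | hy)
    · exact ha
    · rw [Set.mem_singleton_iff] at hy
      subst hy
      exact hb
  have h2 := eq_one_of_mem R hp.1 hp2 hG hE h1 (hcc.conj g)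
  rw [mul_inv_eq_one] at h2
  exact mul_eq_left.1 h2

end Cfsg.Agent.H451.Tor.Edge
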