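import Mathlib
import Cfsg.Agent.SplitTwo.HexDefs
import Cfsg.Agent.TitsThree.RankTwoZ
import Cfsg.Agent.H451.Tor.OrthRows

/-!
# `G₂` and `³D₄` in their own characteristic (for S3235)

An element of the unipotent group `U` of a hexagonal system in characteristic `≥ 5` which commutes with its
`U`-conjugates has trivial components in the simple root groups.
-/

set_option autoImplicit false
set_option linter.unusedSectionVars false

namespace Cfsg.Agent.H451.Tor.Hx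

open Cfsg.Agent.SplitTwo Cfsg.Agent.TitsThree.RankTwoZ Cfsg.Agent.TitsThree.RankTwoIdx

universe u

section Rel

variable {E : Type*} [Field E] {σ : E ≃+* E} {G : Type u} [Group G]
variable {x1 x2 x3 x4 x5 x6 : E → G}

theorem kk_eq {u v w : G} (h : kk u v = w) : u * v = v * u * w := by
  rw [← h, kk]; group

/-- the elements of `X 2 X 3 X 4 X 5 X 6` -/
def hg (x2 x3 x4 x5 x6 : E → G) (a b d e z : E) : G := x2 a * x3 b * x5 d * x6 e * x4 z

variable (R : HexRel σ x1 x2 x3 x4 x5 x6)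
include R

theorem zero2 : x2 0 = 1 := by
  have := R.add2 0 0 (map_zero σ) (map_zero σ)
  rw [add_zero] at this
  exact (mul_eq_left.1 this.symm)

theorem zero1 : x1 0 = 1 := by
  have := R.add1 0 0
  rw [add_zero] at this
  exact (mul_eq_left.1 this.symm)

theorem zero3 : x3 0 = 1 := by
  have := R.add3 0 0
  rw [add_zero] at this
  exact (mul_eq_left.1 this.symm)

theorem zero4 : x4 0 = 1 := by
  have := R.add4 0 0 (map_zero σ) (map_zero σ)
  rw [add_zero] at this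
  exact (mul_eq_left.1 this.symm)

theorem zero5 : x5 0 = 1 := by
  have := R.add5 0 0
  rw [add_zero] at this
  exact (mul_eq_left.1 this.symm)

theorem zero6 : x6 0 = 1 := by
  have := R.add6 0 0 (map_zero σ) (map_zero σ)
  rw [add_zero] at this
  exact (mul_eq_left.1 this.symm)

theorem trc_fix' (a b : E) : σ (trc σ a b) = trc σ a b := by
  unfold trc
  rw [map_add, map_add, R.cube]
  ring

theorem nrm_fix' (a : E) : σ (nrm σ a) = nrm σ a := by
  unfold nrm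
  rw [map_mul, map_mul, R.cube]
  ring

/-- the product of two elements -/
theorem hg_mul {a b d e z a' b' d' e' z' : E} (ha : σ a = a) (he : σ e = e) (hz : σ z = z) (ha' : σ a' = a')
    (he' : σ e' = e') (hz' : σ z' = z') :
    hg x2 x3 x4 x5 x6 a b d e z * hg x2 x3 x4 x5 x6 a' b' d' e' z' =
      hg x2 x3 x4 x5 x6 (a + a') (b + b') (d + d') (e + e') (z + z' - a' * e - trc σ b' d) := by
  have hT := trc_fix' R b' d
  have hae : σ (a' * e) = a' * e := by rw [map_mul, ha', he]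
  have hng : ∀ t, σ t = t → σ (-t) = -t := fun t ht => by rw [map_neg, ht]
  -- commutation rules
  have c4 : ∀ z, σ z = z → (∀ a, σ a = a → x4 z * x2 a = x2 a * x4 z) ∧ (∀ b, x4 z * x3 b = x3 b * x4 z) ∧
      (∀ d, x4 z * x5 d = x5 d * x4 z) ∧ (∀ e, σ e = e → x4 z * x6 e = x6 e * x4 z) := by
    intro z hz
    refine ⟨fun a ha => ?_, fun b => ?_, fun d => ?_, fun e he => ?_⟩
    · have := kk_eq (R.c24 a z ha hz); rw [mul_one] at this; exact this.symm
    · have := kk_eq (R.c34 b z hz); rw [mul_one] at this; exact this.symm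
    · have := kk_eq (R.c45 z d hz); rwa [mul_one] at this
    · have := kk_eq (R.c46 z e hz he); rwa [mul_one] at this
  have r26 : x6 e * x2 a' = x2 a' * x6 e * x4 (-(a' * e)) := by
    have h := kk_eq (R.c26 a' e ha' he)
    have h2 : x4 (a' * e) * x4 (-(a' * e)) = 1 := by
      rw [← R.add4 _ _ hae (hng _ hae), add_neg_cancel, zero4 R]
    rw [h, mul_assoc _ (x4 (a' * e)), h2, mul_one]
  have r35 : x5 d * x3 b' = x3 b' * x5 d * x4 (-(trc σ b' d)) := by
    have h := kk_eq (R.c35 b' d)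
    have h2 : x4 (trc σ b' d) * x4 (-(trc σ b' d)) = 1 := by
      rw [← R.add4 _ _ hT (hng _ hT), add_neg_cancel, zero4 R]
    rw [h, mul_assoc _ (x4 (trc σ b' d)), h2, mul_one]
  have r23 : ∀ a, σ a = a → ∀ b, x3 b * x2 a = x2 a * x3 b := fun a ha b => by
    have := kk_eq (R.c23 a b ha); rw [mul_one] at this; exact this.symm
  have r25 : ∀ a, σ a = a → ∀ b, x5 b * x2 a = x2 a * x5 b := fun a ha b => by
    have := kk_eq (R.c25 a b ha); rw [mul_one] at this; exact this.symm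
  have r36 : ∀ b e, σ e = e → x6 e * x3 b = x3 b * x6 e := fun b e he => by
    have := kk_eq (R.c36 b e he); rw [mul_one] at this; exact this.symm
  have r56 : ∀ b e, σ e = e → x6 e * x5 b = x5 b * x6 e := fun b e he => by
    have := kk_eq (R.c56 b e he); rw [mul_one] at this; exact this.symm
  have hz2 : z + z' - a' * e - trc σ b' d = (-(a' * e)) + ((-(trc σ b' d)) + (z + z')) := by ring
  unfold hg
  rw [hz2, R.add2 _ _ ha ha', R.add3, R.add5, R.add6 _ _ he he', R.add4 _ _ (hng _ hae)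
    (by rw [map_add, map_add, map_neg, hT, hz, hz']), R.add4 _ _ (hng _ hT) (by rw [map_add, hz, hz']),
    R.add4 _ _ hz hz']
  obtain ⟨z2, z3, z5, z6⟩ := c4 z hz
  obtain ⟨t2, t3, t5, t6⟩ := c4 (-(trc σ b' d)) (hng _ hT)
  obtain ⟨s2, s3, s5, s6⟩ := c4 (-(a' * e)) (hng _ hae)
  calc x2 a * x3 b * x5 d * x6 e * x4 z * (x2 a' * x3 b' * x5 d' * x6 e' * x4 z')
      = x2 a * x3 b * x5 d * x6 e * (x4 z * x2 a') * x3 b' * x5 d' * x6 e' * x4 z' := by group
    _ = x2 a * x3 b * x5 d * (x6 e * x2 a') * (x4 z * x3 b') * x5 d' * x6 e' * x4 z' := by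
      rw [z2 a' ha']; group
    _ = x2 a * x3 b * (x5 d * x2 a') * x6 e * x4 (-(a' * e)) * x3 b' * (x4 z * x5 d') * x6 e' * x4 z' := by
      rw [z3, r26]; group
    _ = x2 a * (x3 b * x2 a') * x5 d * x6 e * (x4 (-(a' * e)) * x3 b') * x5 d' * (x4 z * x6 e') * x4 z' := by
      rw [z5, r25 _ ha']; group
    _ = x2 a * x2 a' * x3 b * x5 d * (x6 e * x3 b') * (x4 (-(a' * e)) * x5 d') * x6 e' * x4 z * x4 z' := by
      rw [z6 _ he', r23 _ ha', s3]; group
    _ = x2 a * x2 a' * x3 b * (x5 d * x3 b') * (x6 e * x5 d') * (x4 (-(a' * e)) * x6 e') * x4 z * x4 z' := by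
      rw [r36 _ _ he, s5]; group
    _ = x2 a * x2 a' * x3 b * x3 b' * x5 d * (x4 (-(trc σ b' d)) * x5 d') * x6 e * x6 e' * x4 (-(a' * e)) *
          x4 z * x4 z' := by
      rw [r35, r56 _ _ he, s6 _ he']; group
    _ = x2 a * x2 a' * x3 b * x3 b' * x5 d * x5 d' * (x4 (-(trc σ b' d)) * x6 e) * x6 e' * x4 (-(a' * e)) *
          x4 z * x4 z' := by
      rw [t5]; group
    _ = x2 a * x2 a' * x3 b * x3 b' * x5 d * x5 d' * x6 e * (x4 (-(trc σ b' d)) * x6 e') * x4 (-(a' * e)) *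
          x4 z * x4 z' := by
      rw [t6 _ he]; group
    _ = x2 a * x2 a' * x3 b * x3 b' * x5 d * x5 d' * x6 e * x6 e' * (x4 (-(trc σ b' d)) * x4 (-(a' * e))) *
          x4 z * x4 z' := by
      rw [t6 _ he']; group
    _ = _ := by
      rw [← R.add4 _ _ (hng _ hT) (hng _ hae), add_comm, R.add4 _ _ (hng _ hae) (hng _ hT)]
      group

theorem inv3 (b : E) : x3 (-b) = (x3 b)⁻¹ := by
  rw [eq_inv_iff_mul_eq_one, ← R.add3, neg_add_cancel, zero3 R]

theorem inv5 (b : E) : x5 (-b) = (x5 b)⁻¹ := by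
  rw [eq_inv_iff_mul_eq_one, ← R.add5, neg_add_cancel, zero5 R]

theorem inv6 {b : E} (hb : σ b = b) : x6 (-b) = (x6 b)⁻¹ := by
  rw [eq_inv_iff_mul_eq_one, ← R.add6 _ _ (by rw [map_neg, hb]) hb, neg_add_cancel, zero6 R]

theorem hg2 (a : E) : x2 a = hg x2 x3 x4 x5 x6 a 0 0 0 0 := by
  unfold hg; rw [zero3 R, zero4 R, zero5 R, zero6 R]; simp

theorem hg3 (a : E) : x3 a = hg x2 x3 x4 x5 x6 0 a 0 0 0 := by
  unfold hg; rw [zero2 R, zero4 R, zero5 R, zero6 R]; simp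

theorem hg4 (a : E) : x4 a = hg x2 x3 x4 x5 x6 0 0 0 0 a := by
  unfold hg; rw [zero2 R, zero3 R, zero5 R, zero6 R]; simp

theorem hg5 (a : E) : x5 a = hg x2 x3 x4 x5 x6 0 0 a 0 0 := by
  unfold hg; rw [zero2 R, zero3 R, zero4 R, zero6 R]; simp

theorem hg6 (a : E) : x6 a = hg x2 x3 x4 x5 x6 0 0 0 a 0 := by
  unfold hg; rw [zero2 R, zero3 R, zero4 R, zero5 R]; simp

omit R in
theorem conj_of_kk {u v w : G} (h : kk u v⁻¹ = w) : u⁻¹ * v * u = w * v := by
  rw [← h, kk]; group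

theorem conj2 {a : E} (ha : σ a = a) (t : E) : (x1 t)⁻¹ * x2 a * x1 t = x2 a := by
  have := kk_eq (R.c12 t a ha)
  rw [mul_one] at this
  rw [mul_assoc, ← this, inv_mul_cancel_left]

theorem conj4 {a : E} (ha : σ a = a) (t : E) : (x1 t)⁻¹ * x4 a * x1 t = x4 a := by
  have := kk_eq (R.c14 t a ha)
  rw [mul_one] at this
  rw [mul_assoc, ← this, inv_mul_cancel_left]

theorem conj3 (b t : E) : (x1 t)⁻¹ * x3 b * x1 t = hg x2 x3 x4 x5 x6 (-trc σ t b) b 0 0 0 := by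
  have h0 := R.c13 t (-b)
  rw [inv3 R b] at h0
  have h := conj_of_kk h0
  rw [h, show trc σ t (-b) = -trc σ t b by unfold trc; simp only [mul_neg, map_neg]; ring]
  unfold hg; rw [zero4 R, zero5 R, zero6 R]; simp

theorem conj5 (b t : E) : (x1 t)⁻¹ * x5 b * x1 t =
    hg x2 x3 x4 x5 x6 (trc σ (shp σ t) b) (-crs σ t b) b 0 (trc σ t (shp σ b)) := by
  have h0 := R.c15 t (-b)
  rw [inv5 R b] at h0
  have h := conj_of_kk h0
  rw [h, show trc σ (shp σ t) (-b) = -trc σ (shp σ t) b by unfold trc; simp only [mul_neg, map_neg]; ring,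
    neg_neg, show crs σ t (-b) = -crs σ t b by unfold crs; simp only [mul_neg, map_neg]; ring,
    show shp σ (-b) = shp σ b by unfold shp; simp only [map_neg]; ring]
  have h45 := kk_eq (R.c45 (trc σ t (shp σ b)) b (trc_fix' R _ _))
  rw [mul_one] at h45
  unfold hg; rw [zero6 R, mul_one, mul_assoc _ (x4 _), h45, ← mul_assoc]

theorem conj6 {e : E} (he : σ e = e) (t : E) : (x1 t)⁻¹ * x6 e * x1 t =
    hg x2 x3 x4 x5 x6 (e * nrm σ t) (-(e * shp σ t)) (e * t) e (e ^ 2 * nrm σ t) := by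
  have hne : σ (-e) = -e := by rw [map_neg, he]
  have h0 := R.c16 t (-e) hne
  rw [inv6 R he] at h0
  have h := conj_of_kk h0
  have e1 : -(-e * nrm σ t) = e * nrm σ t := by ring
  have e2 : -e * shp σ t = -(e * shp σ t) := by ring
  have e3 : (-e) ^ 2 * nrm σ t = e ^ 2 * nrm σ t := by ring
  have e4 : -(-e * t) = e * t := by ring
  have hf : σ (e ^ 2 * nrm σ t) = e ^ 2 * nrm σ t := by rw [map_mul, map_pow, he, nrm_fix' R]
  rw [h, e1, e2, e3, e4]
  have h45 := kk_eq (R.c45 (e ^ 2 * nrm σ t) (e * t) hf)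
  have h46 := kk_eq (R.c46 (e ^ 2 * nrm σ t) e hf he)
  rw [mul_one] at h45 h46
  unfold hg
  rw [mul_assoc _ (x4 _), h45, ← mul_assoc, mul_assoc _ (x4 _), h46, ← mul_assoc]

omit R in
theorem hg_congr {a b d e z a' b' d' e' : E} (ha : a = a') (hb : b = b') (hd : d = d') (he : e = e') :
    hg x2 x3 x4 x5 x6 a b d e z = hg x2 x3 x4 x5 x6 a' b' d' e' z := by
  rw [ha, hb, hd, he]

/-- conjugation by `x1 t` -/
theorem hg_conj {a b d e z : E} (ha : σ a = a) (he : σ e = e) (hz : σ z = z) (t : E) :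
    ∃ z', σ z' = z' ∧ (x1 t)⁻¹ * hg x2 x3 x4 x5 x6 a b d e z * x1 t =
      hg x2 x3 x4 x5 x6 (a - trc σ t b + trc σ (shp σ t) d + e * nrm σ t) (b - crs σ t d - e * shp σ t)
        (d + e * t) e z' := by
  have h0 : σ (0 : E) = 0 := map_zero σ
  have hT : ∀ a b, σ (trc σ a b) = trc σ a b := trc_fix' R
  have hN : ∀ a, σ (nrm σ a) = nrm σ a := nrm_fix' R
  have hc : (x1 t)⁻¹ * hg x2 x3 x4 x5 x6 a b d e z * x1 t =
      ((x1 t)⁻¹ * x2 a * x1 t) * ((x1 t)⁻¹ * x3 b * x1 t) * ((x1 t)⁻¹ * x5 d * x1 t) *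
        ((x1 t)⁻¹ * x6 e * x1 t) * ((x1 t)⁻¹ * x4 z * x1 t) := by
    unfold hg; group
  rw [hc, conj2 R ha, conj3 R, conj5 R, conj6 R he, conj4 R hz, hg2 R a, hg4 R z,
    hg_mul R ha h0 h0 (by rw [map_neg, hT]) h0 h0,
    hg_mul R (by simp [ha, hT]) (by simp) (by simp [hT]) (hT _ _) h0 (hT _ _),
    hg_mul R (by simp [ha, hT]) (by simp) (by simp [hT]) (by simp [he, hN]) he (by simp [he, hN]),
    hg_mul R (by simp [ha, hT, he, hN]) (by simp [he]) (by simp [hT, he, hN]) h0 h0 hz]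
  refine ⟨_, ?_, hg_congr ?_ ?_ ?_ ?_⟩
  · simp [hT, he, hN, hz]
  all_goals ring

/-- commuting elements -/
theorem comm_eq (hinj : ∀ a b, σ a = a → σ b = b → x4 a = x4 b → a = b) {a b d e z a' b' d' e' z' : E}
    (ha : σ a = a) (he : σ e = e) (hz : σ z = z) (ha' : σ a' = a')
    (he' : σ e' = e') (hz' : σ z' = z')
    (hc : hg x2 x3 x4 x5 x6 a b d e z * hg x2 x3 x4 x5 x6 a' b' d' e' z' =
      hg x2 x3 x4 x5 x6 a' b' d' e' z' * hg x2 x3 x4 x5 x6 a b d e z) :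
    a' * e + trc σ b' d = a * e' + trc σ b d' := by
  rw [hg_mul R ha he hz ha' he' hz', hg_mul R ha' he' hz' ha he hz] at hc
  have h1 : hg x2 x3 x4 x5 x6 (a + a') (b + b') (d + d') (e + e') (z + z' - a' * e - trc σ b' d) =
      hg x2 x3 x4 x5 x6 (a + a') (b + b') (d + d') (e + e') (z' + z - a * e' - trc σ b d') := by
    rw [hc]
    exact hg_congr (add_comm _ _) (add_comm _ _) (add_comm _ _) (add_comm _ _)
  unfold hg at h1
  have h2 := hinj _ _ (by simp [ha', he, hz, hz', trc_fix' R]) (by simp [ha, he', hz, hz', trc_fix' R])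
    (mul_left_cancel h1)
  linear_combination -h2

/-- **Claim 2**: the last component vanishes. -/
theorem last_zero (h6 : (6 : E) ≠ 0) (hinj : ∀ a b, σ a = a → σ b = b → x4 a = x4 b → a = b) {a b d e z : E}
    (ha : σ a = a) (he : σ e = e) (hz : σ z = z)
    (hc : ∀ t, hg x2 x3 x4 x5 x6 a b d e z * ((x1 t)⁻¹ * hg x2 x3 x4 x5 x6 a b d e z * x1 t) =
      ((x1 t)⁻¹ * hg x2 x3 x4 x5 x6 a b d e z * x1 t) * hg x2 x3 x4 x5 x6 a b d e z) : e = 0 := by
  have hT : ∀ a b, σ (trc σ a b) = trc σ a b := trc_fix' R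
  have hN : ∀ a, σ (nrm σ a) = nrm σ a := nrm_fix' R
  have key : ∀ t, σ t = t → e * (e * t ^ 3) =
      t * (2 * e * trc σ 1 b + trc σ (crs σ 1 d) d) := by
    intro t ht
    obtain ⟨z', hz', h1⟩ := hg_conj R (b := b) (d := d) ha he hz t
    have h2 := hc t
    rw [h1] at h2
    have h3 := comm_eq R hinj ha he hz (by simp [ha, he, hT, hN]) he hz' h2
    simp only [trc, crs, shp, nrm, map_mul, map_add, map_sub, ht, he, map_one, R.cube, one_mul] at h3 ⊢
    linear_combination h3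
  have k1 := key 1 (map_one σ)
  have k2 := key 2 (map_ofNat σ 2)
  have h4 : 6 * (e * e) = 0 := by linear_combination k2 - 2 * k1
  exact mul_self_eq_zero.1 ((mul_eq_zero.1 h4).resolve_left h6)

theorem inv1 (b : E) : x1 (-b) = (x1 b)⁻¹ := by
  rw [eq_inv_iff_mul_eq_one, ← R.add1, neg_add_cancel, zero1 R]

theorem x6_hg {a b d e z : E} (ha : σ a = a) (he : σ e = e) (hz : σ z = z) :
    x6 1 * hg x2 x3 x4 x5 x6 a b d e z = hg x2 x3 x4 x5 x6 a b d e z * x6 1 * x4 (-a) := by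
  have h0 : σ (0 : E) = 0 := map_zero σ
  have h1 : σ (1 : E) = 1 := map_one σ
  have hn : σ (-a) = -a := by rw [map_neg, ha]
  rw [hg6 R 1, hg4 R (-a), hg_mul R h0 h1 h0 ha he hz, hg_mul R ha he hz h0 h1 h0,
    hg_mul R (by simp [ha]) (by simp [he]) (by simp [hz, trc_fix' R]) h0 h0 hn]
  unfold hg
  congr 1
  · congr 1
    · congr 1
      · congr 1
        · congr 1; ring
        · congr 1; ring
      · congr 1; ring
    · congr 1; ring
  · congr 1
    simp only [trc, map_mul, map_add, map_zero]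
    ring

/-- uniqueness of the first coordinate -/
theorem fst_eq (hinj : ∀ a b, σ a = a → σ b = b → x4 a = x4 b → a = b) {a b d e z a' b' d' e' z' : E}
    (ha : σ a = a) (he : σ e = e) (hz : σ z = z) (ha' : σ a' = a') (he' : σ e' = e') (hz' : σ z' = z')
    (h : hg x2 x3 x4 x5 x6 a b d e z = hg x2 x3 x4 x5 x6 a' b' d' e' z') : a = a' := by
  have h1 := x6_hg R (b := b) (d := d) ha he hz
  have h2 := x6_hg R (b := b') (d := d') ha' he' hz'
  rw [← h, h1] at h2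
  have h3 := hinj _ _ (by rw [map_neg, ha]) (by rw [map_neg, ha']) (mul_left_cancel h2)
  exact neg_injective h3

/-- **Claim 1**: the first component vanishes. -/
theorem first_zero (h6 : (6 : E) ≠ 0) (hinj : ∀ a b, σ a = a → σ b = b → x4 a = x4 b → a = b) {a b d e z t : E}
    (ha : σ a = a) (he : σ e = e) (hz : σ z = z)
    (hc : ∀ s, (hg x2 x3 x4 x5 x6 a b d e z * x1 t) * ((x5 s)⁻¹ * (hg x2 x3 x4 x5 x6 a b d e z * x1 t) * x5 s) =
      ((x5 s)⁻¹ * (hg x2 x3 x4 x5 x6 a b d e z * x1 t) * x5 s) * (hg x2 x3 x4 x5 x6 a b d e z * x1 t)) :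
    t = 0 := by
  have hT : ∀ a b, σ (trc σ a b) = trc σ a b := trc_fix' R
  have hN : ∀ a, σ (nrm σ a) = nrm σ a := nrm_fix' R
  have h0 : σ (0 : E) = 0 := map_zero σ
  set v := hg x2 x3 x4 x5 x6 a b d e z with hv
  -- conjugation of `v` by `x5 t`
  obtain ⟨z1, hz1, h1⟩ : ∃ z1, σ z1 = z1 ∧ (x5 t)⁻¹ * v * x5 t = v * x4 z1 := by
    refine ⟨trc σ b t, hT _ _, ?_⟩
    rw [mul_assoc, inv_mul_eq_iff_eq_mul, hv, hg4 R (trc σ b t), hg5 R t, hg_mul R ha he hz h0 h0 h0,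
      hg_mul R ha he hz h0 h0 (hT _ _), hg_mul R h0 h0 h0 (by simp [ha]) (by simp [he]) (by simp [hT, hz])]
    unfold hg
    congr 1
    · congr 1
      · congr 1
        · congr 1
          · congr 1; ring
          · congr 1; ring
        · congr 1; ring
      · congr 1; ring
    · congr 1
      simp only [trc, map_mul, map_add, map_zero]
      ring
  -- conjugation of `x1 t` by `x5 t`
  have h2 : (x5 t)⁻¹ * x1 t * x5 t =
      x1 t * hg x2 x3 x4 x5 x6 (-(trc σ (shp σ t) t)) (crs σ t t) 0 0 (trc σ t (shp σ t)) := by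
    have h3 := kk_eq (R.c15 t t)
    rw [mul_assoc, inv_mul_eq_iff_eq_mul, h3]
    unfold hg
    rw [zero5 R, zero6 R, mul_one, mul_one, mul_assoc]
  set m := x4 z1 * hg x2 x3 x4 x5 x6 (-(trc σ (shp σ t) t)) (crs σ t t) 0 0 (trc σ t (shp σ t)) with hm
  have hm' : m = hg x2 x3 x4 x5 x6 (-(trc σ (shp σ t) t)) (crs σ t t) 0 0 (z1 + trc σ t (shp σ t)) := by
    rw [hm, hg4 R z1, hg_mul R h0 h0 hz1 (by simp [hT]) h0 (hT _ _)]
    unfold hg
    congr 1
    · congr 1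
      · congr 1
        · congr 1
          · congr 1; ring
          · congr 1; ring
        · congr 1; ring
      · congr 1; ring
    · congr 1
      simp only [trc, map_zero, mul_zero]
      ring
  have h14 : x4 z1 * x1 t = x1 t * x4 z1 := by
    have := kk_eq (R.c14 t z1 hz1)
    rw [mul_one] at this
    exact this.symm
  have h3 : (x5 t)⁻¹ * (v * x1 t) * x5 t = v * x1 t * m := by
    have e1 : (x5 t)⁻¹ * (v * x1 t) * x5 t = ((x5 t)⁻¹ * v * x5 t) * ((x5 t)⁻¹ * x1 t * x5 t) := by group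
    rw [e1, h1, h2, hm, ← mul_assoc, ← mul_assoc, mul_assoc v, h14]
    simp only [mul_assoc]
  have h4 := hc t
  rw [h3] at h4
  -- `x1 t` and `m`
  obtain ⟨z2, hz2, h5⟩ := hg_conj R (a := -(trc σ (shp σ t) t)) (b := crs σ t t) (d := 0) (e := 0)
    (z := z1 + trc σ t (shp σ t)) (by simp [hT]) h0 (by simp [hT, hz1]) t
  rw [← hm'] at h5
  -- `v m' = m v` where `m' = (x1 t)⁻¹...`
  have h6' : (v * x1 t) * m = m * (v * x1 t) := by
    have : v * x1 t * (v * x1 t * m) = v * x1 t * (m * (v * x1 t)) := by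
      rw [h4]; simp only [mul_assoc]
    exact mul_left_cancel this
  set m2 := x1 t * m * (x1 t)⁻¹ with hm2
  have h7 : v * m2 = m * v := by
    have e1 : v * m2 = (v * x1 t) * m * (x1 t)⁻¹ := by rw [hm2]; group
    rw [e1, h6']; group
  have h8 : (x1 t)⁻¹ * m2 * x1 t = m := by rw [hm2]; group
  -- compute `m2`
  obtain ⟨z3, hz3, h9⟩ := hg_conj R (a := -(trc σ (shp σ t) t)) (b := crs σ t t) (d := 0) (e := 0)
    (z := z1 + trc σ t (shp σ t)) (by simp [hT]) h0 (by simp [hT, hz1]) (-t)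
  rw [inv1 R t, inv_inv, ← hm', ← hm2] at h9
  rw [h9, hm', hv, hg_mul R ha he hz (by simp [hT]) h0 hz3, hg_mul R (by simp [hT]) h0 (by simp [hT, hz1]) ha he hz] at h7
  have h10 := fst_eq R hinj (by simp [ha, hT]) (by simp [he]) (by simp [he, hz, hz3, hT])
    (by simp [ha, hT]) (by simp [he]) (by simp [hz, hz1, hT]) h7
  have h11 : 6 * (t * (σ t * σ (σ t))) = 0 := by
    simp only [trc, crs, shp, map_mul, map_add, map_neg, map_zero, R.cube] at h10
    linear_combination h10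
  have h12 := (mul_eq_zero.1 h11).resolve_left h6
  rcases mul_eq_zero.1 h12 with h | h
  · exact h
  · rcases mul_eq_zero.1 h with h | h
    · exact (map_eq_zero σ).1 h
    · exact (map_eq_zero σ).1 ((map_eq_zero σ).1 h)

end Rel

section Main

variable {E : Type*} [Field E] {σ : E ≃+* E} {G : Type u} [Group G] (c : RGDZ 6 G)
variable {x1 x2 x3 x4 x5 x6 : E → G}

/-- the elements of `X 2 ⋯ X 6` form a subgroup -/
def VS (R : HexRel σ x1 x2 x3 x4 x5 x6) : Subgroup G where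
  carrier := {g | ∃ a b d e z, σ a = a ∧ σ e = e ∧ σ z = z ∧ g = hg x2 x3 x4 x5 x6 a b d e z}
  one_mem' := ⟨0, 0, 0, 0, 0, map_zero σ, map_zero σ, map_zero σ, by
    unfold hg; rw [zero2 R, zero3 R, zero4 R, zero5 R, zero6 R]; simp⟩
  mul_mem' := by
    rintro _ _ ⟨a, b, d, e, z, ha, he, hz, rfl⟩ ⟨a', b', d', e', z', ha', he', hz', rfl⟩
    exact ⟨_, _, _, _, _, by rw [map_add, ha, ha'], by rw [map_add, he, he'],
      by simp [ha', he, hz, hz', trc_fix' R], hg_mul R ha he hz ha' he' hz'⟩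
  inv_mem' := by
    rintro _ ⟨a, b, d, e, z, ha, he, hz, rfl⟩
    have hng : ∀ t, σ t = t → σ (-t) = -t := fun t ht => by rw [map_neg, ht]
    have h0 : σ (0 : E) = 0 := map_zero σ
    refine ⟨-a, -b, -d, -e, -z - a * e - trc σ b d, hng _ ha, hng _ he, by simp [ha, he, hz, trc_fix' R], ?_⟩
    rw [inv_eq_iff_mul_eq_one, hg_mul R ha he hz (hng _ ha) (hng _ he) (by simp [ha, he, hz, trc_fix' R])]
    unfold hg
    rw [add_neg_cancel, add_neg_cancel, add_neg_cancel, add_neg_cancel, zero2 R, zero3 R, zero5 R, zero6 R,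
      show z + (-z - a * e - trc σ b d) - -a * e - trc σ (-b) d = 0 by unfold trc; simp only [neg_mul, map_neg]; ring,
      zero4 R]
    simp

theorem VI_le_VS (h : HexPar σ c.X x1 x2 x3 x4 x5 x6) : c.r2.VI ≤ VS h.rel := by
  refine iSup₂_le fun k hk g hg => ?_
  have h0 : σ (0 : E) = 0 := map_zero σ
  obtain ⟨h1, h2⟩ := hk
  have h3 : k = 2 ∨ k = 3 ∨ k = 4 ∨ k = 5 ∨ k = 6 := by omega
  rcases h3 with rfl | rfl | rfl | rfl | rfl
  · obtain ⟨a, ha, rfl⟩ := (h.mem2 g).1 hg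
    exact ⟨a, 0, 0, 0, 0, ha, h0, h0, hg2 h.rel a⟩
  · obtain ⟨a, rfl⟩ := (h.mem3 g).1 hg
    exact ⟨0, a, 0, 0, 0, h0, h0, h0, hg3 h.rel a⟩
  · obtain ⟨a, ha, rfl⟩ := (h.mem4 g).1 hg
    exact ⟨0, 0, 0, 0, a, h0, h0, ha, hg4 h.rel a⟩
  · obtain ⟨a, rfl⟩ := (h.mem5 g).1 hg
    exact ⟨0, 0, a, 0, 0, h0, h0, h0, hg5 h.rel a⟩
  · obtain ⟨a, ha, rfl⟩ := (h.mem6 g).1 hg
    exact ⟨0, 0, 0, a, 0, h0, ha, h0, hg6 h.rel a⟩

theorem x_mem (h : HexPar σ c.X x1 x2 x3 x4 x5 x6) :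
    (∀ a, x1 a ∈ c.U) ∧ (∀ a, x5 a ∈ c.U) := by
  refine ⟨fun a => ?_, fun a => ?_⟩
  · have h1 : x1 a ∈ c.X ((1 : ℕ) : ZMod (2 * 6)) := by
      rw [Nat.cast_one]; exact (h.mem1 _).2 ⟨a, rfl⟩
    exact c.X_le_U (k := 1) (by norm_num) (by norm_num) h1
  · have h1 : x5 a ∈ c.X ((5 : ℕ) : ZMod (2 * 6)) := (h.mem5 _).2 ⟨a, rfl⟩
    exact c.X_le_U (k := 5) (by norm_num) (by norm_num) h1

/-- **The local claim.** -/
theorem local_claim (h : HexPar σ c.X x1 x2 x3 x4 x5 x6) (h6 : (6 : E) ≠ 0) {y : G} (hy : y ∈ c.U)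
    (hc : ∀ u ∈ c.U, y * (u * y * u⁻¹) = (u * y * u⁻¹) * y) : y ∈ c.r2.VI ∧ y ∈ c.r2.VJ := by
  have R := h.rel
  obtain ⟨hx1, hx5⟩ := x_mem c h
  have hU : y ∈ c.r2.VI ⊔ c.r2.X 1 := by rw [← c.r2.U_eq_I]; exact hy
  obtain ⟨v, hv, a, ha, rfl⟩ := R2.decomp_aux c.r2.X1_VI hU
  have ha' : a ∈ c.X 1 := by
    have : a ∈ c.X ((1 : ℕ) : ZMod (2 * 6)) := ha
    rwa [Nat.cast_one] at this
  obtain ⟨t, rfl⟩ := (h.mem1 a).1 ha'
  obtain ⟨a, b, d, e, z, ha, he, hz, hvv⟩ := VI_le_VS c h hv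
  have ht : t = 0 := by
    refine first_zero R h6 h.inj4 ha he hz (b := b) (d := d) (t := t) fun s => ?_
    have := hc (x5 s)⁻¹ (inv_mem (hx5 s))
    rw [hvv] at this
    simpa only [inv_inv] using this
  rw [ht, zero1 R, mul_one] at hc ⊢
  refine ⟨hv, ?_⟩
  have he0 : e = 0 := by
    refine last_zero R h6 h.inj4 ha he hz (b := b) (d := d) fun s => ?_
    have := hc (x1 s)⁻¹ (inv_mem (hx1 s))
    rw [hvv] at this
    simpa only [inv_inv] using this
  rw [hvv, he0]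
  unfold hg
  rw [zero6 R, mul_one]
  have m2 : x2 a ∈ c.r2.VJ := c.r2.X_le_VJ (k := 2) (by norm_num) (by norm_num) ((h.mem2 _).2 ⟨a, ha, rfl⟩)
  have m3 : x3 b ∈ c.r2.VJ := c.r2.X_le_VJ (k := 3) (by norm_num) (by norm_num) ((h.mem3 _).2 ⟨b, rfl⟩)
  have m4 : x4 z ∈ c.r2.VJ := c.r2.X_le_VJ (k := 4) (by norm_num) (by norm_num) ((h.mem4 _).2 ⟨z, hz, rfl⟩)
  have m5 : x5 d ∈ c.r2.VJ := c.r2.X_le_VJ (k := 5) (by norm_num) (by norm_num) ((h.mem5 _).2 ⟨d, rfl⟩)
  exact mul_mem (mul_mem (mul_mem m2 m3) m5) m4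

/-- **Propagation.** -/
theorem conj_mem_U [Finite G] (hgen : ⨆ k, c.X k = ⊤) (good : G → Prop)
    (hgd : ∀ g y, good y → good (g * y * g⁻¹))
    (hI : ∀ y ∈ c.U, good y → y ∈ c.r2.VI) (hJ : ∀ y ∈ c.U, good y → y ∈ c.r2.VJ) {y : G} (hy : y ∈ c.U)
    (hgy : good y) (g : G) : g * y * g⁻¹ ∈ c.U := by
  let S : Submonoid G :=
    { carrier := {g | ∀ y ∈ c.U, good y → g * y * g⁻¹ ∈ c.U}
      one_mem' := by intro y hy _; simpa using hy
      mul_mem' := by
        intro a b ha hb y hy hgy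
        have h1 := ha _ (hb y hy hgy) (hgd b y hgy)
        have e : a * b * y * (a * b)⁻¹ = a * (b * y * b⁻¹) * a⁻¹ := by group
        rw [e]; exact h1 }
  let T : Subgroup G :=
    { S with
      inv_mem' := by
        intro g hg
        have : g⁻¹ = g ^ (orderOf g - 1) := by
          rw [eq_comm, ← mul_eq_one_iff_eq_inv, ← pow_succ, Nat.sub_add_cancel (orderOf_pos g), pow_orderOf_eq_one]
        rw [this]
        exact S.pow_mem hg _ }
  have hUT : c.core.U ≤ T := fun g hg y hy _ => mul_mem (mul_mem hg hy) (inv_mem hg)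
  have hHT : c.core.H ≤ T := fun g hg y hy _ => c.core.HU g hg y hy
  have hnI : c.core.nI ∈ T := fun y hy hgy => c.core.sI.V_le (c.core.sI.nV y (hI y hy hgy))
  have hnJ : c.core.nJ ∈ T := fun y hy hgy => c.core.sJ.V_le (c.core.sJ.nV y (hJ y hy hgy))
  have hI' : c.core.AI' ≤ T := by
    intro a ha
    by_cases h1 : a = 1
    · rw [h1]; exact one_mem _
    · obtain ⟨u, hu, h, hh, v, hv, rfl⟩ := c.core.sI.rank_one a ha h1
      exact mul_mem (mul_mem (mul_mem (hUT (c.core.sI.A_le hu)) hnI) (hHT hh)) (hUT (c.core.sI.A_le hv))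
  have hJ' : c.core.AJ' ≤ T := by
    intro a ha
    by_cases h1 : a = 1
    · rw [h1]; exact one_mem _
    · obtain ⟨u, hu, h, hh, v, hv, rfl⟩ := c.core.sJ.rank_one a ha h1
      exact mul_mem (mul_mem (mul_mem (hUT (c.core.sJ.A_le hu)) hnJ) (hHT hh)) (hUT (c.core.sJ.A_le hv))
  have hG : c.core.G ≤ T := sup_le (sup_le hUT hHT) (sup_le hI' hJ')
  have hT : g ∈ T := by
    have h1 : (⊤ : Subgroup G) ≤ T := by
      rw [← hgen]
      exact iSup_le fun k => (c.X_le_G k).trans hG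
    exact h1 (Subgroup.mem_top g)
  exact hT y hy hgy

theorem eq_one_of_mem [Finite G] [IsSimpleGroup G] (hgen : ⨆ k, c.X k = ⊤) (hUt : c.U ≠ ⊤)
    (h : HexPar σ c.X x1 x2 x3 x4 x5 x6) (h6 : (6 : E) ≠ 0) {p : ℕ} (hUp : IsPGroup p c.U) {x : G} (hx : x ∈ c.U)
    (hPC : Orth.PC p x) : x = 1 := by
  have hloc : ∀ y ∈ c.U, Orth.PC p y → y ∈ c.r2.VI ∧ y ∈ c.r2.VJ := by
    intro y hy hPC
    refine local_claim c h h6 hy fun u hu => hPC u ?_
    refine hUp.to_le ?_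
    rw [Subgroup.closure_le]
    rintro g (rfl | hg)
    · exact hy
    · rw [Set.mem_singleton_iff] at hg
      subst hg
      exact mul_mem (mul_mem hu hy) (inv_mem hu)
  have hconj : ∀ (g : G) (y : G), Orth.PC p y → Orth.PC p (g * y * g⁻¹) := fun g y hy => by
    have := hy.of_equiv (MulAut.conj g)
    simpa [MulAut.conj_apply] using this
  have key := conj_mem_U c hgen (Orth.PC p) hconj (fun y hy hg => (hloc y hy hg).1) (fun y hy hg => (hloc y hy hg).2)
    hx hPC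
  have h1 : Subgroup.normalClosure ({x} : Set G) ≤ c.U := by
    rw [Subgroup.normalClosure, Subgroup.closure_le]
    intro y hy
    obtain ⟨z, hz, hc⟩ := Group.mem_conjugatesOfSet_iff.1 hy
    rw [Set.mem_singleton_iff] at hz
    subst hz
    obtain ⟨g, hg⟩ := isConj_iff.1 hc
    rw [← hg]
    exact key g
  rcases (Subgroup.normalClosure_normal (s := ({x} : Set G))).eq_bot_or_eq_top with h2 | h2
  · have h3 : x ∈ Subgroup.normalClosure ({x} : Set G) := Subgroup.subset_normalClosure (Set.mem_singleton x)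
    rwa [h2, Subgroup.mem_bot] at h3
  · rw [h2] at h1
    exact absurd (eq_top_iff.2 h1) hUt

/-- **The row.** -/
theorem eq_one [Finite G] [IsSimpleGroup G] (hgen : ⨆ k, c.X k = ⊤) (hUt : c.U ≠ ⊤)
    (h : HexPar σ c.X x1 x2 x3 x4 x5 x6) (h6 : (6 : E) ≠ 0) {p : ℕ} [hp : Fact p.Prime] (hUp : IsPGroup p c.U)
    (hind : ¬ p ∣ c.U.index) {x : G} (hx : x ^ p = 1) (hPC : Orth.PC p x) : x = 1 := by
  have hz : IsPGroup p (Subgroup.zpowers x) := by
    by_cases h1 : x = 1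
    · rw [h1, Subgroup.zpowers_one_eq_bot]
      exact IsPGroup.of_bot
    · apply IsPGroup.of_card (n := 1)
      rw [Nat.card_zpowers, pow_one, orderOf_eq_prime hx h1]
  obtain ⟨Q, hQ⟩ := hz.exists_le_sylow
  obtain ⟨g, hg⟩ := MulAction.exists_smul_eq G Q (hUp.toSylow hind)
  have h1 : g * x * g⁻¹ ∈ c.U := by
    have h2 : x ∈ (Q : Subgroup G) := hQ (Subgroup.mem_zpowers x)
    have h3 : g * x * g⁻¹ ∈ ((g • Q : Sylow p G) : Subgroup G) := by
      rw [Sylow.coe_subgroup_smul, Subgroup.mem_pointwise_smul_iff_inv_smul_mem]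
      have : (MulAut.conj g)⁻¹ • (g * x * g⁻¹) = x := by
        rw [← map_inv]
        simp [MulAut.smul_def]
        group
      rw [this]; exact h2
    rw [hg] at h3
    exact h3
  have hPC' : Orth.PC p (g * x * g⁻¹) := by
    have := hPC.of_equiv (MulAut.conj g)
    simpa [MulAut.conj_apply] using this
  have h2 := eq_one_of_mem c hgen hUt h h6 hUp h1 hPC'
  rw [mul_inv_eq_one] at h2
  exact mul_eq_left.1 h2

end Main

end Cfsg.Agent.H451.Tor.Hx
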