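import Cfsg.Agent.H451.Tor.NoNorm
import Cfsg.Agent.H107.SpTr
import Cfsg.Agent.LieClassical.SympCenter

/-!
# S3235, `PSp_{2m}(q)` in cross characteristic: the group is irreducible (helper451)

`g ∈ Sp_{2m}(q)` of order `p`, `A = ⟨π g⟩ ≤ PSp_{2m}(q)` with `Pr p A`.
* `iso_eq_bot`: no totally isotropic invariant subspace;
* `irr`: no invariant subspace.
-/

set_option autoImplicit false

namespace Cfsg.Agent.H451.Tor.SpX

open Subgroup Cfsg
open Cfsg.Agent.H103.Tor
open Cfsg.Agent.BpLieP.Big (LocChar)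
open Cfsg.Agent.ClassicalGeometry.SympBasic
open Cfsg.Agent.H107.SpTr (act act_def act_mul act_one act_add act_sub act_smul act_zero act_inv_act act_act_inv act_inj
  form_act ext_act act_transv conj_transv)

variable {F : Type} [Field F] {m : ℕ}

/-- the symplectic group -/
abbrev Sp (m : ℕ) (F : Type) [Field F] : Type := ↥(Matrix.symplecticGroup (Fin m) F)

/-- its natural module -/
abbrev Vm (m : ℕ) (F : Type) [Field F] : Type := Fin m ⊕ Fin m → F

/-- the projection `Sp → PSp` -/
abbrev pr : (Sp m F) →* PSp m F := QuotientGroup.mk' (center (Sp m F))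

theorem pr_surj : Function.Surjective (pr (F := F) (m := m)) := QuotientGroup.mk'_surjective _

/-- central elements are scalars -/
theorem central {z : (Sp m F)} (hm : 1 ≤ m) (hz : z ∈ center (Sp m F)) : ∃ c : F, c * c = 1 ∧ ∀ x : (Vm m F), act z x = c • x := by
  obtain ⟨c, hc⟩ := (Cfsg.Agent.LieClassical.SympCenter.mem_center_iff m z).1 hz
  refine ⟨c, ?_, fun x => ?_⟩
  · apply Cfsg.Agent.LieClassical.SympCenter.sq_eq_one_of_smul_mem hm
    rw [← hc]; exact z.2
  · rw [act_def, hc, Matrix.smul_mulVec, Matrix.one_mulVec]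

theorem central_sq {z : (Sp m F)} (hm : 1 ≤ m) (hz : z ∈ center (Sp m F)) : z ^ 2 = 1 := by
  obtain ⟨c, hc, h⟩ := central hm hz
  apply ext_act
  intro x
  rw [sq, act_mul, h, h, smul_smul, hc, one_smul, act_one]

/-- equality in the projective group -/
theorem eq_of_pr {x y : (Sp m F)} (hm : 1 ≤ m) (h : pr x = pr y) : ∃ c : F, c * c = 1 ∧ ∀ v : (Vm m F), act x v = c • act y v := by
  have h1 : x⁻¹ * y ∈ center (Sp m F) := QuotientGroup.eq.1 h
  have h2 : y * x⁻¹ ∈ center (Sp m F) := by
    have h3 : y * x⁻¹ = x * (x⁻¹ * y) * x⁻¹ := by group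
    rw [h3]
    exact (inferInstance : (center (Sp m F)).Normal).conj_mem _ h1 x
  have h4 : x * y⁻¹ ∈ center (Sp m F) := by
    have := (center (Sp m F)).inv_mem h2
    rwa [mul_inv_rev, inv_inv] at this
  obtain ⟨c, hc, h⟩ := central hm h4
  refine ⟨c, hc, fun v => ?_⟩
  rw [← h, ← act_mul]
  congr 1
  group

/-- commuting lifts -/
theorem comm_of_pr {p : ℕ} (hp2 : Odd p) (hm : 1 ≤ m) {x y : (Sp m F)} (hx : x ^ p = 1) (h : pr x * pr y = pr y * pr x) :
    x * y = y * x := by
  rw [← map_mul, ← map_mul] at h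
  have h1 : (y * x)⁻¹ * (x * y) ∈ center (Sp m F) := QuotientGroup.eq.1 h.symm
  set z := (y * x)⁻¹ * (x * y) with hz
  have h2 : x * y = y * x * z := by rw [hz]; group
  have hzc : ∀ w : (Sp m F), z * w = w * z := fun w => ((mem_center_iff.1 h1) w).symm
  have h3 : ∀ k : ℕ, x ^ k * y = y * x ^ k * z ^ k := by
    intro k
    induction k with
    | zero => simp
    | succ k ih =>
      calc x ^ (k + 1) * y = x ^ k * (x * y) := by rw [pow_succ, mul_assoc]
        _ = (x ^ k * y) * x * z := by rw [h2]; group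
        _ = y * x ^ k * z ^ k * x * z := by rw [ih]
        _ = y * x ^ k * (x * z ^ k) * z := by
          rw [mul_assoc (y * x ^ k), (show Commute (z ^ k) x from (show Commute z x from hzc x).pow_left k).eq]
        _ = _ := by rw [pow_succ x, pow_succ z]; group
  have h4 := h3 p
  rw [hx, one_mul, mul_one] at h4
  have h5 : z ^ p = 1 := by
    have : y * 1 = y * z ^ p := by rw [mul_one]; exact h4
    exact (mul_left_cancel this).symm
  have h6 : z ^ 2 = 1 := central_sq hm h1
  obtain ⟨k, hk⟩ := hp2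
  rw [hk, pow_succ, pow_mul, h6, one_pow, one_mul] at h5
  rw [h2, h5, mul_one]

theorem transv_central {w : (Vm m F)} (hm : 1 ≤ m) (h : pr (transv w (1 : F)) = 1) : w = 0 := by
  by_contra hw
  rw [← map_one pr] at h
  obtain ⟨c, hc, hv⟩ := eq_of_pr hm h
  have h1 := hv w
  rw [act_transv, sympForm_self, mul_zero, zero_smul, add_zero, act_one] at h1
  have hc1 : c = 1 := by
    have h2 : (c - 1) • w = 0 := by rw [sub_smul, one_smul, ← h1, sub_self]
    rcases smul_eq_zero.1 h2 with h3 | h3
    · exact sub_eq_zero.1 h3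
    · exact absurd h3 hw
  apply hw
  apply eq_zero_of_forall_sympForm_left
  intro v
  have h2 := hv v
  rw [act_transv, hc1, one_smul, act_one, one_mul] at h2
  have h3 : sympForm m F v w • w = 0 := by
    have := congrArg (fun x => x - v) h2
    simpa using this
  rcases smul_eq_zero.1 h3 with h4 | h4
  · exact h4
  · exact absurd h4 hw

section Main

variable [Fintype F] {p r : ℕ} (hp : p.Prime) (hp5 : 5 ≤ p) (hr : r.Prime) (hrp : r ≠ p) [CharP F r] (hm : 1 ≤ m)
  (hL : LocChar r (PSp m F)) {g : (Sp m F)} (hg : g ^ p = 1) (h : Pr p (zpowers (pr g)))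

/-- invariance under the powers of `g` -/
theorem inv_pow {g : (Sp m F)} {W : Submodule F (Vm m F)} (hW : ∀ w ∈ W, act g w ∈ W) {x : (Sp m F)} (hx : x ∈ zpowers g) :
    ∀ w ∈ W, act x w ∈ W := by
  classical
  have hfin : IsOfFinOrder g := isOfFinOrder_of_finite g
  rw [hfin.mem_zpowers_iff_mem_range_orderOf, Finset.mem_image] at hx
  obtain ⟨k, -, rfl⟩ := hx
  intro w hw
  induction k with
  | zero => rw [pow_zero, act_one]; exact hw
  | succ k ih => rw [pow_succ', act_mul]; exact hW _ ih

include hp hp5 hr hrp hm hL h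

theorem iso_eq_bot {W : Submodule F (Vm m F)} (hW : ∀ w ∈ W, act g w ∈ W) (hWi : ∀ v ∈ W, ∀ w ∈ W, sympForm m F v w = 0) : W = ⊥ := by
  obtain ⟨R₀, hR₀⟩ : ∃ R₀ : Subgroup (Sp m F), ∀ u, u ∈ R₀ ↔ (∀ v, act u v - v ∈ W) ∧ (∀ w ∈ W, act u w = w) := by
    refine ⟨{ carrier := {u | (∀ v, act u v - v ∈ W) ∧ (∀ w ∈ W, act u w = w)}
              mul_mem' := ?_
              one_mem' := ?_
              inv_mem' := ?_ }, fun u => Iff.rfl⟩
    · rintro u v ⟨hu1, hu2⟩ ⟨hv1, hv2⟩
      refine ⟨fun x => ?_, fun w hw => ?_⟩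
      · have e : act (u * v) x - x = (act u (act v x) - act v x) + (act v x - x) := by rw [act_mul]; abel
        rw [e]
        exact W.add_mem (hu1 _) (hv1 _)
      · rw [act_mul, hv2 w hw, hu2 w hw]
    · refine ⟨fun x => ?_, fun w _ => act_one w⟩
      rw [act_one, sub_self]; exact W.zero_mem
    · rintro u ⟨hu1, hu2⟩
      refine ⟨fun x => ?_, fun w hw => ?_⟩
      · have := hu1 (act u⁻¹ x)
        rw [act_act_inv] at this
        rw [← neg_sub]
        exact W.neg_mem this
      · conv_lhs => rw [← hu2 w hw]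
        rw [act_inv_act]
  have hpow : ∀ u ∈ R₀, u ^ r = 1 := by
    intro u hu
    obtain ⟨hu1, hu2⟩ := (hR₀ u).1 hu
    have key : ∀ (k : ℕ) (v : (Vm m F)), act (u ^ k) v = v + (k : F) • (act u v - v) := by
      intro k
      induction k with
      | zero => intro v; rw [pow_zero, act_one]; simp
      | succ k ih =>
        intro v
        rw [pow_succ', act_mul, ih, act_add, act_smul, hu2 _ (hu1 v), Nat.cast_succ, add_smul, one_smul]
        abel
    apply ext_act
    intro v
    rw [key, CharP.cast_eq_zero, zero_smul, add_zero, act_one]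
  have hR : IsPGroup r (R₀.map pr) := by
    apply IsPGroup.map
    intro x
    refine ⟨1, ?_⟩
    rw [pow_one]
    exact Subtype.ext (hpow x x.2)
  have h1 := no_norm hp hp5 hr hrp hL h hR ?_
  · rw [eq_bot_iff]
    intro w hw
    rw [Submodule.mem_bot]
    apply transv_central hm
    have h2 : pr (transv w (1 : F)) ∈ R₀.map pr := by
      refine ⟨_, ?_, rfl⟩
      rw [SetLike.mem_coe, hR₀]
      refine ⟨fun v => ?_, fun v hv => ?_⟩
      · rw [act_transv, add_sub_cancel_left]
        exact W.smul_mem _ hw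
      · rw [act_transv, hWi v hv w hw, mul_zero, zero_smul, add_zero]
    rwa [h1, mem_bot] at h2
  · rintro a ha _ ⟨u, hu, rfl⟩
    rw [← MonoidHom.map_zpowers] at ha
    obtain ⟨x, hx, rfl⟩ := ha
    refine ⟨x * u * x⁻¹, ?_, by rw [map_mul, map_mul, map_inv]⟩
    obtain ⟨hu1, hu2⟩ := (hR₀ u).1 hu
    rw [SetLike.mem_coe, hR₀]
    refine ⟨fun v => ?_, fun w hw => ?_⟩
    · have h3 := inv_pow hW hx _ (hu1 (act x⁻¹ v))
      rw [act_sub, act_act_inv] at h3
      rw [act_mul, act_mul]
      exact h3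
    · rw [act_mul, act_mul, hu2 _ (inv_pow hW ((zpowers g).inv_mem hx) w hw), act_act_inv]

/-- no eigenvectors -/
theorem no_eig {w : (Vm m F)} {c : F} (hw : act g w = c • w) : w = 0 := by
  have h1 := iso_eq_bot hp hp5 hr hrp hm hL h (W := Submodule.span F {w}) ?_ ?_
  · rwa [Submodule.span_singleton_eq_bot] at h1
  · intro x hx
    obtain ⟨a, rfl⟩ := Submodule.mem_span_singleton.1 hx
    rw [act_smul, hw, smul_smul]
    exact Submodule.smul_mem _ _ (Submodule.mem_span_singleton_self w)
  · intro x hx y hy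
    obtain ⟨a, rfl⟩ := Submodule.mem_span_singleton.1 hx
    obtain ⟨b, rfl⟩ := Submodule.mem_span_singleton.1 hy
    rw [sympForm_smul_left, sympForm_smul_right, sympForm_self, mul_zero, mul_zero]

include hg

theorem sq_fix {w : (Vm m F)} (hw : act g (act g w) = w) : w = 0 := by
  apply no_eig hp hp5 hr hrp hm hL h (c := 1)
  rw [one_smul]
  obtain ⟨k, hk⟩ := hp.odd_of_ne_two (by omega)
  have h1 : ∀ j : ℕ, act (g ^ (2 * j)) w = w := by
    intro j
    induction j with
    | zero => rw [mul_zero, pow_zero, act_one]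
    | succ j ih =>
      rw [show 2 * (j + 1) = 2 + 2 * j by ring, pow_add, act_mul, ih, sq, act_mul, hw]
  have h2 : act (g ^ (2 * k + 1)) w = act g w := by rw [pow_succ', act_mul, h1]
  rw [← h2, ← hk, hg, act_one]

theorem cube_fix {w : (Vm m F)} (hw : act g (act g (act g w)) = w) : w = 0 := by
  apply no_eig hp hp5 hr hrp hm hL h (c := 1)
  rw [one_smul]
  have h1 : ∀ j : ℕ, act (g ^ (3 * j)) w = w := by
    intro j
    induction j with
    | zero => rw [mul_zero, pow_zero, act_one]
    | succ j ih =>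
      rw [show 3 * (j + 1) = 3 + 3 * j by ring, pow_add, act_mul, ih, pow_succ, sq, act_mul, act_mul, hw]
  have h3 : p % 3 = 1 ∨ p % 3 = 2 := by
    have : p % 3 ≠ 0 := by
      intro h0
      have h4 : 3 ∣ p := Nat.dvd_of_mod_eq_zero h0
      rw [Nat.prime_dvd_prime_iff_eq Nat.prime_three hp] at h4
      omega
    omega
  rcases h3 with h3 | h3
  · have h2 : act (g ^ (3 * (p / 3) + 1)) w = act g w := by rw [pow_succ', act_mul, h1]
    rw [← h2, show 3 * (p / 3) + 1 = p by omega, hg, act_one]
  · have h2 : act (g ^ (3 * (p / 3) + 2)) w = act g (act g w) := by rw [add_comm, pow_add, act_mul, h1, sq, act_mul]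
    rw [show 3 * (p / 3) + 2 = p by omega, hg, act_one] at h2
    apply act_inj g
    apply act_inj g
    rw [hw]
    exact h2

/-- the irreducibility -/
theorem irr (W : Submodule F (Vm m F)) (hW : ∀ w ∈ W, act g w ∈ W) : W = ⊥ ∨ W = ⊤ := by
  by_contra hcon
  push Not at hcon
  obtain ⟨hW0, hW1⟩ := hcon
  -- orthogonal complements
  have horth : ∀ X : Submodule F (Vm m F), (∀ w ∈ X, act g w ∈ X) → ∃ Y : Submodule F (Vm m F),
      (∀ v, v ∈ Y ↔ ∀ w ∈ X, sympForm m F v w = 0) ∧ (∀ w ∈ Y, act g w ∈ Y) ∧ X ⊓ Y = ⊥ := by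
    intro X hX
    obtain ⟨Y, hY⟩ : ∃ Y : Submodule F (Vm m F), ∀ v, v ∈ Y ↔ ∀ w ∈ X, sympForm m F v w = 0 := by
      refine ⟨{ carrier := {v | ∀ w ∈ X, sympForm m F v w = 0}, add_mem' := ?_, zero_mem' := ?_, smul_mem' := ?_ },
        fun _ => Iff.rfl⟩
      · intro a b ha hb w hw
        rw [sympForm_add_left, ha w hw, hb w hw, add_zero]
      · intro w _
        exact sympForm_zero_left w
      · intro c a ha w hw
        rw [sympForm_smul_left, ha w hw, mul_zero]
    have hYg : ∀ w ∈ Y, act g w ∈ Y := by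
      intro v hv
      rw [hY] at hv ⊢
      intro w hw
      have h1 := hv _ (inv_pow hX ((zpowers g).inv_mem (mem_zpowers g)) w hw)
      rwa [← form_act g, act_act_inv] at h1
    refine ⟨Y, hY, hYg, ?_⟩
    apply iso_eq_bot hp hp5 hr hrp hm hL h
    · rintro w ⟨h1, h2⟩
      exact ⟨hX w h1, hYg w h2⟩
    · rintro v ⟨h1, h2⟩ w ⟨h3, h4⟩
      exact (hY v).1 h2 w h3
  obtain ⟨U, hU, hUg, hWU⟩ := horth W hW
  obtain ⟨U', hU', hUg', hUU⟩ := horth U hUg
  -- `U ≠ ⊥`
  have hU0 : ∃ u ∈ U, u ≠ 0 := by
    by_contra hc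
    push Not at hc
    apply hW1
    by_contra hW2
    obtain ⟨f, hf, hfW⟩ := Submodule.exists_le_ker_of_lt_top W (lt_of_le_of_ne le_top hW1)
    have hinj : Function.Injective (sympBilin m F) := by
      intro x y hxy
      apply eq_of_forall_sympForm_right
      intro w
      exact LinearMap.congr_fun hxy w
    have hsurj : Function.Surjective (sympBilin m F) :=
      (LinearMap.injective_iff_surjective_of_finrank_eq_finrank (Subspace.dual_finrank_eq).symm).1 hinj
    obtain ⟨u, hu⟩ := hsurj f
    have hu1 : u ∈ U := by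
      rw [hU]
      intro w hw
      have h1 := hfW hw
      rw [LinearMap.mem_ker, ← hu, sympBilin_apply] at h1
      exact h1
    have hu2 := hc u hu1
    apply hf
    rw [← hu, hu2, map_zero]
  obtain ⟨u₀, hu₀, hu₀'⟩ := hU0
  obtain ⟨w₀, hw₀, hw₀'⟩ := (Submodule.ne_bot_iff W).1 hW0
  -- the pointwise stabiliser of `W`
  obtain ⟨N₀, hN₀⟩ : ∃ N₀ : Subgroup (Sp m F), ∀ u, u ∈ N₀ ↔ (∀ w ∈ W, act u w = w) := by
    refine ⟨{ carrier := {u | (∀ w ∈ W, act u w = w)}
              mul_mem' := ?_
              one_mem' := ?_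
              inv_mem' := ?_ }, fun u => Iff.rfl⟩
    · intro u v hu2 hv2 w hw
      rw [act_mul, hv2 w hw, hu2 w hw]
    · intro w _
      exact act_one w
    · intro u hu2 w hw
      conv_lhs => rw [← hu2 w hw]
      rw [act_inv_act]
  have hcomm : ∀ n ∈ N₀, g * (n * g * n⁻¹) = n * g * n⁻¹ * g := by
    intro n hn
    have h1 : Cm (zpowers (pr g)) (cj (pr n) (zpowers (pr g))) := by
      apply h.comm_of_norm hp hp5 (N := N₀.map pr) ?_ ?_ ⟨n, hn, rfl⟩
      · rintro a ha _ ⟨u, hu, rfl⟩
        rw [← MonoidHom.map_zpowers] at ha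
        obtain ⟨x, hx, rfl⟩ := ha
        refine ⟨x * u * x⁻¹, ?_, by rw [map_mul, map_mul, map_inv]⟩
        rw [SetLike.mem_coe, hN₀] at hu ⊢
        intro w hw
        rw [act_mul, act_mul, hu _ (inv_pow hW ((zpowers g).inv_mem hx) w hw), act_act_inv]
      · intro hle
        obtain ⟨n', hn', he⟩ := hle (mem_zpowers (pr g))
        obtain ⟨c, -, hc⟩ := eq_of_pr hm he.symm
        apply hw₀'
        apply no_eig hp hp5 hr hrp hm hL h (c := c)
        rw [hc, (hN₀ n').1 hn' _ hw₀]
    apply comm_of_pr (hp.odd_of_ne_two (by omega)) hm hg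
    have h2 := h1 (pr g) (mem_zpowers _) (pr n * pr g * (pr n)⁻¹) (conj_mem_cj (mem_zpowers _))
    rw [map_mul, map_mul, map_inv]
    exact h2
  -- the equation
  have hkey : ∀ (w : (Vm m F)), w ∈ U → ∀ (l : F), l ≠ 0 → ∀ v : (Vm m F),
      -(sympForm m F v w • act g (act g w)) + (2 * sympForm m F (act g v) w) • act g w - (l * sympForm m F (act g w) w * sympForm m F v w) • act g w =
        sympForm m F (act g (act g v)) w • w - (l * sympForm m F (act g w) w * sympForm m F (act g v) w) • w := by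
    intro w hw l hl v
    have hn : transv w l ∈ N₀ := by
      rw [hN₀]
      intro x hx
      rw [act_transv, sympForm_swap, (hU w).1 hw x hx, neg_zero, mul_zero, zero_smul, add_zero]
    have h1 := congrArg (fun s => act s v) (hcomm _ hn)
    simp only [act_mul, Cfsg.Agent.H107.SpTr.transv_inv, act_transv, act_add, act_smul, sympForm_add_left,
      sympForm_smul_left] at h1
    have h2 : l • (-(sympForm m F v w • act g (act g w)) + (2 * sympForm m F (act g v) w) • act g w -
        (l * sympForm m F (act g w) w * sympForm m F v w) • act g w - (sympForm m F (act g (act g v)) w • w -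
          (l * sympForm m F (act g w) w * sympForm m F (act g v) w) • w)) = 0 := by
      rw [← sub_eq_zero] at h1
      rw [← h1]
      module
    rcases smul_eq_zero.1 h2 with h3 | h3
    · exact absurd h3 hl
    · exact sub_eq_zero.1 h3
  by_cases hF : ∃ l : F, l ≠ 0 ∧ l ≠ 1
  · obtain ⟨l, hl0, hl1⟩ := hF
    -- `sympForm m F(gw, w) = 0`
    have hz : ∀ w ∈ U, sympForm m F (act g w) w = 0 := by
      intro w hw
      by_contra hne
      have h1 := hkey w hw l hl0 (act g w)
      have h2 := hkey w hw 1 one_ne_zero (act g w)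
      have h3 : ((l - 1) * sympForm m F (act g w) w * sympForm m F (act g w) w) • act g w =
          ((l - 1) * sympForm m F (act g w) w * sympForm m F (act g (act g w)) w) • w := by
        rw [← sub_eq_zero] at h1 h2 ⊢
        have h4 := congrArg₂ (fun x y => y - x) h1 h2
        simp only [sub_zero] at h4
        rw [← h4]
        module
      have hc : (l - 1) * sympForm m F (act g w) w * sympForm m F (act g w) w ≠ 0 :=
        mul_ne_zero (mul_ne_zero (sub_ne_zero.2 hl1) hne) hne
      have h5 : act g w = (((l - 1) * sympForm m F (act g w) w * sympForm m F (act g w) w)⁻¹ *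
          ((l - 1) * sympForm m F (act g w) w * sympForm m F (act g (act g w)) w)) • w := by
        rw [mul_smul, ← h3, smul_smul, inv_mul_cancel₀ hc, one_smul]
      have h6 := no_eig hp hp5 hr hrp hm hL h h5
      rw [h6, act_zero, sympForm_self] at hne
      exact hne rfl
    apply hu₀'
    apply sq_fix hp hp5 hr hrp hm hL hg h
    have h1 : act g u₀ - act g⁻¹ u₀ ∈ U ⊓ U' := by
      have hUi := inv_pow hUg ((zpowers g).inv_mem (mem_zpowers g))
      refine ⟨U.sub_mem (hUg _ hu₀) (hUi _ hu₀), ?_⟩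
      show _ ∈ U'
      rw [hU']
      intro w hw
      have h2 := hz (u₀ + w) (U.add_mem hu₀ hw)
      rw [act_add, sympForm_add_left, sympForm_add_right, sympForm_add_right, hz _ hu₀, hz _ hw] at h2
      have h3 : sympForm m F (act g⁻¹ u₀) w = - sympForm m F (act g w) u₀ := by
        rw [← form_act g, act_act_inv, sympForm_swap]
      rw [sympForm_sub_left, h3]
      linear_combination h2
    rw [hUU, Submodule.mem_bot, sub_eq_zero] at h1
    rw [h1, act_act_inv]
  · push Not at hF
    have h2F : (2 : F) = 0 := by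
      by_contra hne
      have := hF 2 hne
      have h1 : (1 : F) = 0 := by linear_combination this
      exact one_ne_zero h1
    obtain ⟨v, hv⟩ : ∃ v, sympForm m F v u₀ = 1 := by
      by_contra hc
      push Not at hc
      apply hu₀'
      apply eq_zero_of_forall_sympForm_left
      intro w
      by_contra h1
      exact hc w (hF _ h1)
    have h1 := hkey u₀ hu₀ 1 one_ne_zero v
    rw [h2F, hv, one_smul, zero_mul, zero_smul, add_zero, one_mul, mul_one] at h1
    -- `g² u = s u + c gu`
    obtain ⟨s, c, hs⟩ : ∃ s c : F, act g (act g u₀) = s • u₀ + c • act g u₀ := by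
      refine ⟨-(sympForm m F (act g (act g v)) u₀ - (sympForm m F (act g u₀) u₀ * sympForm m F (act g v) u₀)), - sympForm m F (act g u₀) u₀, ?_⟩
      have h3 : act g (act g u₀) = -(-(act g (act g u₀)) - sympForm m F (act g u₀) u₀ • act g u₀) -
          sympForm m F (act g u₀) u₀ • act g u₀ := by abel
      rw [h3, h1]
      module
    have hs0 : s ≠ 0 := by
      intro h0
      rw [h0, zero_smul, zero_add] at hs
      have h3 : act g u₀ = 0 := no_eig hp hp5 hr hrp hm hL h hs
      apply hu₀'
      apply act_inj g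
      rw [h3, act_zero]
    have hs1 := hF s hs0
    rw [hs1, one_smul] at hs
    by_cases hc0 : c = 0
    · rw [hc0, zero_smul, add_zero] at hs
      exact hu₀' (sq_fix hp hp5 hr hrp hm hL hg h hs)
    · rw [hF c hc0, one_smul] at hs
      apply hu₀'
      apply cube_fix hp hp5 hr hrp hm hL hg h
      rw [hs, act_add, hs]
      have h4 : act g u₀ + (u₀ + act g u₀) = u₀ + (2 : F) • act g u₀ := by module
      rw [h4, h2F, zero_smul, add_zero]

end Main

end Cfsg.Agent.H451.Tor.SpX
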